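import Cfsg.Agent.Lib.Grp.Fi23.Defs

set_option autoImplicit false
set_option maxRecDepth 100000
set_option Elab.async false
set_option linter.unusedSectionVars false

namespace Cfsg.Agent.CG.Fi23

theorem c109 : chkDef 20 (appB tabs t80 0xfffff) 54 (slp 54) 20000 11671 = true := by decide +kernel
theorem c110 : chkDef 20 (appB tabs t80 0xfffff) 55 (slp 55) 0 20000 = true := by decide +kernel
theorem c111 : chkDef 20 (appB tabs t80 0xfffff) 55 (slp 55) 20000 11671 = true := by decide +kernel
theorem c112 : chkDef 20 (appB tabs t80 0xfffff) 56 (slp 56) 0 20000 = true := by decide +kernel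
theorem c113 : chkDef 20 (appB tabs t80 0xfffff) 56 (slp 56) 20000 11671 = true := by decide +kernel
theorem c114 : chkDef 20 (appB tabs t80 0xfffff) 57 (slp 57) 0 20000 = true := by decide +kernel
theorem c115 : chkDef 20 (appB tabs t80 0xfffff) 57 (slp 57) 20000 11671 = true := by decide +kernel
theorem c116 : chkDef 20 (appB tabs t80 0xfffff) 58 (slp 58) 0 20000 = true := by decide +kernel
theorem c117 : chkDef 20 (appB tabs t80 0xfffff) 58 (slp 58) 20000 11671 = true := by decide +kernel
theorem c118 : chkDef 20 (appB tabs t80 0xfffff) 59 (slp 59) 0 20000 = true := by decide +kernel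
theorem c119 : chkDef 20 (appB tabs t80 0xfffff) 59 (slp 59) 20000 11671 = true := by decide +kernel
theorem c120 : chkDef 20 (appB tabs t80 0xfffff) 60 (slp 60) 0 20000 = true := by decide +kernel
theorem c121 : chkDef 20 (appB tabs t80 0xfffff) 60 (slp 60) 20000 11671 = true := by decide +kernel
theorem c122 : chkDef 20 (appB tabs t80 0xfffff) 61 (slp 61) 0 20000 = true := by decide +kernel
theorem c123 : chkDef 20 (appB tabs t80 0xfffff) 61 (slp 61) 20000 11671 = true := by decide +kernel
theorem c124 : chkDef 20 (appB tabs t80 0xfffff) 62 (slp 62) 0 20000 = true := by decide +kernel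
theorem c125 : chkDef 20 (appB tabs t80 0xfffff) 62 (slp 62) 20000 11671 = true := by decide +kernel
theorem c126 : chkDef 20 (appB tabs t80 0xfffff) 63 (slp 63) 0 20000 = true := by decide +kernel
theorem c127 : chkDef 20 (appB tabs t80 0xfffff) 63 (slp 63) 20000 11671 = true := by decide +kernel
theorem c128 : chkDef 20 (appB tabs t80 0xfffff) 64 (slp 64) 0 20000 = true := by decide +kernel
theorem c129 : chkDef 20 (appB tabs t80 0xfffff) 64 (slp 64) 20000 11671 = true := by decide +kernel
theorem c130 : chkDef 20 (appB tabs t80 0xfffff) 65 (slp 65) 0 20000 = true := by decide +kernel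
theorem c131 : chkDef 20 (appB tabs t80 0xfffff) 65 (slp 65) 20000 11671 = true := by decide +kernel
theorem c132 : chkDef 20 (appB tabs t80 0xfffff) 66 (slp 66) 0 20000 = true := by decide +kernel
theorem c133 : chkDef 20 (appB tabs t80 0xfffff) 66 (slp 66) 20000 11671 = true := by decide +kernel
theorem c134 : chkDef 20 (appB tabs t80 0xfffff) 67 (slp 67) 0 20000 = true := by decide +kernel
theorem c135 : chkDef 20 (appB tabs t80 0xfffff) 67 (slp 67) 20000 11671 = true := by decide +kernel
theorem c136 : chkDef 20 (appB tabs t80 0xfffff) 68 (slp 68) 0 20000 = true := by decide +kernel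
theorem c137 : chkDef 20 (appB tabs t80 0xfffff) 68 (slp 68) 20000 11671 = true := by decide +kernel
theorem c138 : chkDef 20 (appB tabs t80 0xfffff) 69 (slp 69) 0 20000 = true := by decide +kernel
theorem c139 : chkDef 20 (appB tabs t80 0xfffff) 69 (slp 69) 20000 11671 = true := by decide +kernel
theorem c140 : chkDef 20 (appB tabs t80 0xfffff) 70 (slp 70) 0 20000 = true := by decide +kernel
theorem c141 : chkDef 20 (appB tabs t80 0xfffff) 70 (slp 70) 20000 11671 = true := by decide +kernel
theorem c142 : chkDef 20 (appB tabs t80 0xfffff) 71 (slp 71) 0 20000 = true := by decide +kernel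
theorem c143 : chkDef 20 (appB tabs t80 0xfffff) 71 (slp 71) 20000 11671 = true := by decide +kernel
theorem c144 : chkDef 20 (appB tabs t80 0xfffff) 72 (slp 72) 0 20000 = true := by decide +kernel
theorem c145 : chkDef 20 (appB tabs t80 0xfffff) 72 (slp 72) 20000 11671 = true := by decide +kernel
theorem c146 : chkDef 20 (appB tabs t80 0xfffff) 73 (slp 73) 0 20000 = true := by decide +kernel
theorem c147 : chkDef 20 (appB tabs t80 0xfffff) 73 (slp 73) 20000 11671 = true := by decide +kernel
theorem c148 : chkDef 20 (appB tabs t80 0xfffff) 74 (slp 74) 0 20000 = true := by decide +kernel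
theorem c149 : chkDef 20 (appB tabs t80 0xfffff) 74 (slp 74) 20000 11671 = true := by decide +kernel
theorem c150 : chkDef 20 (appB tabs t80 0xfffff) 75 (slp 75) 0 20000 = true := by decide +kernel
theorem c151 : chkDef 20 (appB tabs t80 0xfffff) 75 (slp 75) 20000 11671 = true := by decide +kernel
theorem c152 : chkDef 20 (appB tabs t80 0xfffff) 76 (slp 76) 0 20000 = true := by decide +kernel
theorem c153 : chkDef 20 (appB tabs t80 0xfffff) 76 (slp 76) 20000 11671 = true := by decide +kernel
theorem c154 : chkDef 20 (appB tabs t80 0xfffff) 77 (slp 77) 0 20000 = true := by decide +kernel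
theorem c155 : chkDef 20 (appB tabs t80 0xfffff) 77 (slp 77) 20000 11671 = true := by decide +kernel
theorem c156 : chkDef 20 (appB tabs t80 0xfffff) 78 (slp 78) 0 20000 = true := by decide +kernel
theorem c157 : chkDef 20 (appB tabs t80 0xfffff) 78 (slp 78) 20000 11671 = true := by decide +kernel
theorem c158 : chkDef 20 (appB tabs t80 0xfffff) 79 (slp 79) 0 20000 = true := by decide +kernel
theorem c159 : chkDef 20 (appB tabs t80 0xfffff) 79 (slp 79) 20000 11671 = true := by decide +kernel
theorem c160 : chkDef 20 (appB tabs t80 0xfffff) 80 (false, []) 0 20000 = true := by decide +kernel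
theorem c161 : chkDef 20 (appB tabs t80 0xfffff) 80 (false, []) 20000 11671 = true := by decide +kernel
theorem c162 : mc0.chk (appB tabs t80 0xfffff) 1 20000 = true := by decide +kernel
theorem c163 : mc0.chk (appB tabs t80 0xfffff) 20001 11670 = true := by decide +kernel
theorem c164 : mc1.chk (appB tabs t80 0xfffff) 1 20000 = true := by decide +kernel
theorem c165 : mc1.chk (appB tabs t80 0xfffff) 20001 8159 = true := by decide +kernel
theorem c166 : mc2.chk (appB tabs t80 0xfffff) 1 20000 = true := by decide +kernel
theorem c167 : mc2.chk (appB tabs t80 0xfffff) 20001 1839 = true := by decide +kernel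
theorem c168 : mc3.chk (appB tabs t80 0xfffff) 1 7775 = true := by decide +kernel
theorem c169 : mc4.chk (appB tabs t80 0xfffff) 1 26 = true := by decide +kernel
theorem c170 : okcb 31671 20 (bases mc) = true := by decide +kernel
theorem c171 : headAll (appB tabs t80 0xfffff) mc [] = true := by decide +kernel
theorem c172 : oneAll 20 (appB tabs t80 0xfffff) [0,0] 0 20000 = true := by decide +kernel
theorem c173 : oneAll 20 (appB tabs t80 0xfffff) [0,0] 20000 11671 = true := by decide +kernel
theorem c174 : oneAll 20 (appB tabs t80 0xfffff) [1,1] 0 20000 = true := by decide +kernel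
theorem c175 : oneAll 20 (appB tabs t80 0xfffff) [1,1] 20000 11671 = true := by decide +kernel
theorem c176 : oneAll 20 (appB tabs t80 0xfffff) [2,2] 0 20000 = true := by decide +kernel
theorem c177 : oneAll 20 (appB tabs t80 0xfffff) [2,2] 20000 11671 = true := by decide +kernel
theorem c178 : oneAll 20 (appB tabs t80 0xfffff) [3,3] 0 20000 = true := by decide +kernel
theorem c179 : oneAll 20 (appB tabs t80 0xfffff) [3,3] 20000 11671 = true := by decide +kernel
theorem c180 : oneAll 20 (appB tabs t80 0xfffff) [4,4] 0 20000 = true := by decide +kernel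
theorem c181 : oneAll 20 (appB tabs t80 0xfffff) [4,4] 20000 11671 = true := by decide +kernel
theorem c182 : oneAll 20 (appB tabs t80 0xfffff) [5,5] 0 20000 = true := by decide +kernel
theorem c183 : oneAll 20 (appB tabs t80 0xfffff) [5,5] 20000 11671 = true := by decide +kernel
theorem c184 : oneAll 20 (appB tabs t80 0xfffff) [6,6] 0 20000 = true := by decide +kernel
theorem c185 : oneAll 20 (appB tabs t80 0xfffff) [6,6] 20000 11671 = true := by decide +kernel
theorem c186 : oneAll 20 (appB tabs t80 0xfffff) [7,7] 0 20000 = true := by decide +kernel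
theorem c187 : oneAll 20 (appB tabs t80 0xfffff) [7,7] 20000 11671 = true := by decide +kernel
theorem c188 : oneAll 20 (appB tabs t80 0xfffff) [8,8] 0 20000 = true := by decide +kernel
theorem c189 : oneAll 20 (appB tabs t80 0xfffff) [8,8] 20000 11671 = true := by decide +kernel
theorem c190 : oneAll 20 (appB tabs t80 0xfffff) [9,9] 0 20000 = true := by decide +kernel
theorem c191 : oneAll 20 (appB tabs t80 0xfffff) [9,9] 20000 11671 = true := by decide +kernel
theorem c192 : oneAll 20 (appB tabs t80 0xfffff) [0,1,0,1,0,1] 0 20000 = true := by decide +kernel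
theorem c193 : oneAll 20 (appB tabs t80 0xfffff) [0,1,0,1,0,1] 20000 11671 = true := by decide +kernel
theorem c194 : oneAll 20 (appB tabs t80 0xfffff) [0,2,0,2] 0 20000 = true := by decide +kernel
theorem c195 : oneAll 20 (appB tabs t80 0xfffff) [0,2,0,2] 20000 11671 = true := by decide +kernel
theorem c196 : oneAll 20 (appB tabs t80 0xfffff) [0,3,0,3] 0 20000 = true := by decide +kernel
theorem c197 : oneAll 20 (appB tabs t80 0xfffff) [0,3,0,3] 20000 11671 = true := by decide +kernel
theorem c198 : oneAll 20 (appB tabs t80 0xfffff) [0,4,0,4] 0 20000 = true := by decide +kernel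
theorem c199 : oneAll 20 (appB tabs t80 0xfffff) [0,4,0,4] 20000 11671 = true := by decide +kernel
theorem c200 : oneAll 20 (appB tabs t80 0xfffff) [0,5,0,5] 0 20000 = true := by decide +kernel
theorem c201 : oneAll 20 (appB tabs t80 0xfffff) [0,5,0,5] 20000 11671 = true := by decide +kernel
theorem c202 : oneAll 20 (appB tabs t80 0xfffff) [0,6,0,6] 0 20000 = true := by decide +kernel
theorem c203 : oneAll 20 (appB tabs t80 0xfffff) [0,6,0,6] 20000 11671 = true := by decide +kernel
theorem c204 : oneAll 20 (appB tabs t80 0xfffff) [0,7,0,7] 0 20000 = true := by decide +kernel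
theorem c205 : oneAll 20 (appB tabs t80 0xfffff) [0,7,0,7] 20000 11671 = true := by decide +kernel
theorem c206 : oneAll 20 (appB tabs t80 0xfffff) [0,8,0,8] 0 20000 = true := by decide +kernel
theorem c207 : oneAll 20 (appB tabs t80 0xfffff) [0,8,0,8] 20000 11671 = true := by decide +kernel
theorem c208 : oneAll 20 (appB tabs t80 0xfffff) [0,9,0,9] 0 20000 = true := by decide +kernel
theorem c209 : oneAll 20 (appB tabs t80 0xfffff) [0,9,0,9] 20000 11671 = true := by decide +kernel
theorem c210 : oneAll 20 (appB tabs t80 0xfffff) [1,2,1,2,1,2] 0 20000 = true := by decide +kernel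
theorem c211 : oneAll 20 (appB tabs t80 0xfffff) [1,2,1,2,1,2] 20000 11671 = true := by decide +kernel
theorem c212 : oneAll 20 (appB tabs t80 0xfffff) [1,3,1,3] 0 20000 = true := by decide +kernel
theorem c213 : oneAll 20 (appB tabs t80 0xfffff) [1,3,1,3] 20000 11671 = true := by decide +kernel
theorem c214 : oneAll 20 (appB tabs t80 0xfffff) [1,4,1,4] 0 20000 = true := by decide +kernel
theorem c215 : oneAll 20 (appB tabs t80 0xfffff) [1,4,1,4] 20000 11671 = true := by decide +kernel
theorem c216 : oneAll 20 (appB tabs t80 0xfffff) [1,5,1,5] 0 20000 = true := by decide +kernel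
theorem c217 : oneAll 20 (appB tabs t80 0xfffff) [1,5,1,5] 20000 11671 = true := by decide +kernel
theorem c218 : oneAll 20 (appB tabs t80 0xfffff) [1,6,1,6] 0 20000 = true := by decide +kernel
theorem c219 : oneAll 20 (appB tabs t80 0xfffff) [1,6,1,6] 20000 11671 = true := by decide +kernel
theorem c220 : oneAll 20 (appB tabs t80 0xfffff) [1,7,1,7] 0 20000 = true := by decide +kernel
theorem c221 : oneAll 20 (appB tabs t80 0xfffff) [1,7,1,7] 20000 11671 = true := by decide +kernel
theorem c222 : oneAll 20 (appB tabs t80 0xfffff) [1,8,1,8] 0 20000 = true := by decide +kernel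
theorem c223 : oneAll 20 (appB tabs t80 0xfffff) [1,8,1,8] 20000 11671 = true := by decide +kernel
theorem c224 : oneAll 20 (appB tabs t80 0xfffff) [1,9,1,9] 0 20000 = true := by decide +kernel
theorem c225 : oneAll 20 (appB tabs t80 0xfffff) [1,9,1,9] 20000 11671 = true := by decide +kernel
theorem c226 : oneAll 20 (appB tabs t80 0xfffff) [2,3,2,3,2,3] 0 20000 = true := by decide +kernel
theorem c227 : oneAll 20 (appB tabs t80 0xfffff) [2,3,2,3,2,3] 20000 11671 = true := by decide +kernel
theorem c228 : oneAll 20 (appB tabs t80 0xfffff) [2,4,2,4] 0 20000 = true := by decide +kernel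
theorem c229 : oneAll 20 (appB tabs t80 0xfffff) [2,4,2,4] 20000 11671 = true := by decide +kernel
theorem c230 : oneAll 20 (appB tabs t80 0xfffff) [2,5,2,5] 0 20000 = true := by decide +kernel
theorem c231 : oneAll 20 (appB tabs t80 0xfffff) [2,5,2,5] 20000 11671 = true := by decide +kernel
theorem c232 : oneAll 20 (appB tabs t80 0xfffff) [2,6,2,6] 0 20000 = true := by decide +kernel
theorem c233 : oneAll 20 (appB tabs t80 0xfffff) [2,6,2,6] 20000 11671 = true := by decide +kernel
theorem c234 : oneAll 20 (appB tabs t80 0xfffff) [2,7,2,7] 0 20000 = true := by decide +kernel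
theorem c235 : oneAll 20 (appB tabs t80 0xfffff) [2,7,2,7] 20000 11671 = true := by decide +kernel

end Cfsg.Agent.CG.Fi23
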