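import Cfsg.Agent.Lib.Grp.Fi23.Defs

set_option autoImplicit false
set_option maxRecDepth 100000
set_option Elab.async false
set_option linter.unusedSectionVars false

namespace Cfsg.Agent.CG.Fi23

theorem c236 : oneAll 20 (appB tabs t80 0xfffff) [2,8,2,8] 0 20000 = true := by decide +kernel
theorem c237 : oneAll 20 (appB tabs t80 0xfffff) [2,8,2,8] 20000 11671 = true := by decide +kernel
theorem c238 : oneAll 20 (appB tabs t80 0xfffff) [2,9,2,9] 0 20000 = true := by decide +kernel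
theorem c239 : oneAll 20 (appB tabs t80 0xfffff) [2,9,2,9] 20000 11671 = true := by decide +kernel
theorem c240 : oneAll 20 (appB tabs t80 0xfffff) [3,4,3,4,3,4] 0 20000 = true := by decide +kernel
theorem c241 : oneAll 20 (appB tabs t80 0xfffff) [3,4,3,4,3,4] 20000 11671 = true := by decide +kernel
theorem c242 : oneAll 20 (appB tabs t80 0xfffff) [3,5,3,5] 0 20000 = true := by decide +kernel
theorem c243 : oneAll 20 (appB tabs t80 0xfffff) [3,5,3,5] 20000 11671 = true := by decide +kernel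
theorem c244 : oneAll 20 (appB tabs t80 0xfffff) [3,6,3,6] 0 20000 = true := by decide +kernel
theorem c245 : oneAll 20 (appB tabs t80 0xfffff) [3,6,3,6] 20000 11671 = true := by decide +kernel
theorem c246 : oneAll 20 (appB tabs t80 0xfffff) [3,7,3,7] 0 20000 = true := by decide +kernel
theorem c247 : oneAll 20 (appB tabs t80 0xfffff) [3,7,3,7] 20000 11671 = true := by decide +kernel
theorem c248 : oneAll 20 (appB tabs t80 0xfffff) [3,8,3,8,3,8] 0 20000 = true := by decide +kernel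
theorem c249 : oneAll 20 (appB tabs t80 0xfffff) [3,8,3,8,3,8] 20000 11671 = true := by decide +kernel
theorem c250 : oneAll 20 (appB tabs t80 0xfffff) [3,9,3,9] 0 20000 = true := by decide +kernel
theorem c251 : oneAll 20 (appB tabs t80 0xfffff) [3,9,3,9] 20000 11671 = true := by decide +kernel
theorem c252 : oneAll 20 (appB tabs t80 0xfffff) [4,5,4,5,4,5] 0 20000 = true := by decide +kernel
theorem c253 : oneAll 20 (appB tabs t80 0xfffff) [4,5,4,5,4,5] 20000 11671 = true := by decide +kernel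
theorem c254 : oneAll 20 (appB tabs t80 0xfffff) [4,6,4,6] 0 20000 = true := by decide +kernel
theorem c255 : oneAll 20 (appB tabs t80 0xfffff) [4,6,4,6] 20000 11671 = true := by decide +kernel
theorem c256 : oneAll 20 (appB tabs t80 0xfffff) [4,7,4,7] 0 20000 = true := by decide +kernel
theorem c257 : oneAll 20 (appB tabs t80 0xfffff) [4,7,4,7] 20000 11671 = true := by decide +kernel
theorem c258 : oneAll 20 (appB tabs t80 0xfffff) [4,8,4,8] 0 20000 = true := by decide +kernel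
theorem c259 : oneAll 20 (appB tabs t80 0xfffff) [4,8,4,8] 20000 11671 = true := by decide +kernel
theorem c260 : oneAll 20 (appB tabs t80 0xfffff) [4,9,4,9] 0 20000 = true := by decide +kernel
theorem c261 : oneAll 20 (appB tabs t80 0xfffff) [4,9,4,9] 20000 11671 = true := by decide +kernel
theorem c262 : oneAll 20 (appB tabs t80 0xfffff) [5,6,5,6,5,6] 0 20000 = true := by decide +kernel
theorem c263 : oneAll 20 (appB tabs t80 0xfffff) [5,6,5,6,5,6] 20000 11671 = true := by decide +kernel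
theorem c264 : oneAll 20 (appB tabs t80 0xfffff) [5,7,5,7] 0 20000 = true := by decide +kernel
theorem c265 : oneAll 20 (appB tabs t80 0xfffff) [5,7,5,7] 20000 11671 = true := by decide +kernel
theorem c266 : oneAll 20 (appB tabs t80 0xfffff) [5,8,5,8] 0 20000 = true := by decide +kernel
theorem c267 : oneAll 20 (appB tabs t80 0xfffff) [5,8,5,8] 20000 11671 = true := by decide +kernel
theorem c268 : oneAll 20 (appB tabs t80 0xfffff) [5,9,5,9] 0 20000 = true := by decide +kernel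
theorem c269 : oneAll 20 (appB tabs t80 0xfffff) [5,9,5,9] 20000 11671 = true := by decide +kernel
theorem c270 : oneAll 20 (appB tabs t80 0xfffff) [6,7,6,7,6,7] 0 20000 = true := by decide +kernel
theorem c271 : oneAll 20 (appB tabs t80 0xfffff) [6,7,6,7,6,7] 20000 11671 = true := by decide +kernel
theorem c272 : oneAll 20 (appB tabs t80 0xfffff) [6,8,6,8] 0 20000 = true := by decide +kernel
theorem c273 : oneAll 20 (appB tabs t80 0xfffff) [6,8,6,8] 20000 11671 = true := by decide +kernel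
theorem c274 : oneAll 20 (appB tabs t80 0xfffff) [6,9,6,9] 0 20000 = true := by decide +kernel
theorem c275 : oneAll 20 (appB tabs t80 0xfffff) [6,9,6,9] 20000 11671 = true := by decide +kernel
theorem c276 : oneAll 20 (appB tabs t80 0xfffff) [7,8,7,8] 0 20000 = true := by decide +kernel
theorem c277 : oneAll 20 (appB tabs t80 0xfffff) [7,8,7,8] 20000 11671 = true := by decide +kernel
theorem c278 : oneAll 20 (appB tabs t80 0xfffff) [7,9,7,9] 0 20000 = true := by decide +kernel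
theorem c279 : oneAll 20 (appB tabs t80 0xfffff) [7,9,7,9] 20000 11671 = true := by decide +kernel
theorem c280 : oneAll 20 (appB tabs t80 0xfffff) [8,9,8,9,8,9] 0 20000 = true := by decide +kernel
theorem c281 : oneAll 20 (appB tabs t80 0xfffff) [8,9,8,9,8,9] 20000 11671 = true := by decide +kernel
theorem c282 : oneAll 20 (appB tabs t80 0xfffff) [3,2,1,3,4,5,3,8,9,3,2,1,3,4,5,3,8,9,3,2,1,3,4,5,3,8,9,3,2,1,3,4,5,3,8,9,3,2,1,3,4,5,3,8,9,3,2,1,3,4,5,3,8,9,3,2,1,3,4,5,3,8,9,3,2,1,3,4,5,3,8,9,3,2,1,3,4,5,3,8,9,3,2,1,3,4,5,3,8,9] 0 4705 = true := by decide +kernel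
theorem c283 : oneAll 20 (appB tabs t80 0xfffff) [3,2,1,3,4,5,3,8,9,3,2,1,3,4,5,3,8,9,3,2,1,3,4,5,3,8,9,3,2,1,3,4,5,3,8,9,3,2,1,3,4,5,3,8,9,3,2,1,3,4,5,3,8,9,3,2,1,3,4,5,3,8,9,3,2,1,3,4,5,3,8,9,3,2,1,3,4,5,3,8,9,3,2,1,3,4,5,3,8,9] 4705 4705 = true := by decide +kernel
theorem c284 : oneAll 20 (appB tabs t80 0xfffff) [3,2,1,3,4,5,3,8,9,3,2,1,3,4,5,3,8,9,3,2,1,3,4,5,3,8,9,3,2,1,3,4,5,3,8,9,3,2,1,3,4,5,3,8,9,3,2,1,3,4,5,3,8,9,3,2,1,3,4,5,3,8,9,3,2,1,3,4,5,3,8,9,3,2,1,3,4,5,3,8,9,3,2,1,3,4,5,3,8,9] 9410 4705 = true := by decide +kernel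
theorem c285 : oneAll 20 (appB tabs t80 0xfffff) [3,2,1,3,4,5,3,8,9,3,2,1,3,4,5,3,8,9,3,2,1,3,4,5,3,8,9,3,2,1,3,4,5,3,8,9,3,2,1,3,4,5,3,8,9,3,2,1,3,4,5,3,8,9,3,2,1,3,4,5,3,8,9,3,2,1,3,4,5,3,8,9,3,2,1,3,4,5,3,8,9,3,2,1,3,4,5,3,8,9] 14115 4705 = true := by decide +kernel
theorem c286 : oneAll 20 (appB tabs t80 0xfffff) [3,2,1,3,4,5,3,8,9,3,2,1,3,4,5,3,8,9,3,2,1,3,4,5,3,8,9,3,2,1,3,4,5,3,8,9,3,2,1,3,4,5,3,8,9,3,2,1,3,4,5,3,8,9,3,2,1,3,4,5,3,8,9,3,2,1,3,4,5,3,8,9,3,2,1,3,4,5,3,8,9,3,2,1,3,4,5,3,8,9] 18820 4705 = true := by decide +kernel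
theorem c287 : oneAll 20 (appB tabs t80 0xfffff) [3,2,1,3,4,5,3,8,9,3,2,1,3,4,5,3,8,9,3,2,1,3,4,5,3,8,9,3,2,1,3,4,5,3,8,9,3,2,1,3,4,5,3,8,9,3,2,1,3,4,5,3,8,9,3,2,1,3,4,5,3,8,9,3,2,1,3,4,5,3,8,9,3,2,1,3,4,5,3,8,9,3,2,1,3,4,5,3,8,9] 23525 4705 = true := by decide +kernel
theorem c288 : oneAll 20 (appB tabs t80 0xfffff) [3,2,1,3,4,5,3,8,9,3,2,1,3,4,5,3,8,9,3,2,1,3,4,5,3,8,9,3,2,1,3,4,5,3,8,9,3,2,1,3,4,5,3,8,9,3,2,1,3,4,5,3,8,9,3,2,1,3,4,5,3,8,9,3,2,1,3,4,5,3,8,9,3,2,1,3,4,5,3,8,9,3,2,1,3,4,5,3,8,9] 28230 3441 = true := by decide +kernel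
theorem c289 : oneAll 20 (appB tabs t80 0xfffff) [0,1,2,3,4,5,8,0,1,2,3,4,5,8,0,1,2,3,4,5,8,0,1,2,3,4,5,8,0,1,2,3,4,5,8,0,1,2,3,4,5,8,0,1,2,3,4,5,8,0,1,2,3,4,5,8,0,1,2,3,4,5,8] 0 6688 = true := by decide +kernel
theorem c290 : oneAll 20 (appB tabs t80 0xfffff) [0,1,2,3,4,5,8,0,1,2,3,4,5,8,0,1,2,3,4,5,8,0,1,2,3,4,5,8,0,1,2,3,4,5,8,0,1,2,3,4,5,8,0,1,2,3,4,5,8,0,1,2,3,4,5,8,0,1,2,3,4,5,8] 6688 6688 = true := by decide +kernel
theorem c291 : oneAll 20 (appB tabs t80 0xfffff) [0,1,2,3,4,5,8,0,1,2,3,4,5,8,0,1,2,3,4,5,8,0,1,2,3,4,5,8,0,1,2,3,4,5,8,0,1,2,3,4,5,8,0,1,2,3,4,5,8,0,1,2,3,4,5,8,0,1,2,3,4,5,8] 13376 6688 = true := by decide +kernel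
theorem c292 : oneAll 20 (appB tabs t80 0xfffff) [0,1,2,3,4,5,8,0,1,2,3,4,5,8,0,1,2,3,4,5,8,0,1,2,3,4,5,8,0,1,2,3,4,5,8,0,1,2,3,4,5,8,0,1,2,3,4,5,8,0,1,2,3,4,5,8,0,1,2,3,4,5,8] 20064 6688 = true := by decide +kernel
theorem c293 : oneAll 20 (appB tabs t80 0xfffff) [0,1,2,3,4,5,8,0,1,2,3,4,5,8,0,1,2,3,4,5,8,0,1,2,3,4,5,8,0,1,2,3,4,5,8,0,1,2,3,4,5,8,0,1,2,3,4,5,8,0,1,2,3,4,5,8,0,1,2,3,4,5,8] 26752 4919 = true := by decide +kernel

end Cfsg.Agent.CG.Fi23
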