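import Cfsg.Agent.Lib.Grp.Fi23.C0
import Cfsg.Agent.Lib.Grp.Fi23.C1
import Cfsg.Agent.Lib.Grp.Fi23.C2

set_option autoImplicit false
set_option maxRecDepth 100000
set_option Elab.async false
set_option linter.unusedSectionVars false

namespace Cfsg.Agent.CG.Fi23

theorem tabOK : TabOK 31671 20 app 10 80 inv slp where
  w_pos := by decide
  base := allRange_of_allL (l := [0,1,2,3,4,5,6,7,8,9]) (by decide +kernel) (allL_cons (allLt_of_allRange (rapp (allRange (chkBase 31671 20 (appB tabs t80 0xfffff) 0 (inv 0))) (fun _ _ _ => allRange_append) 31671 c0 c1 rfl rfl)) (allL_cons (allLt_of_allRange (rapp (allRange (chkBase 31671 20 (appB tabs t80 0xfffff) 1 (inv 1))) (fun _ _ _ => allRange_append) 31671 c2 c3 rfl rfl)) (allL_cons (allLt_of_allRange (rapp (allRange (chkBase 31671 20 (appB tabs t80 0xfffff) 2 (inv 2))) (fun _ _ _ => allRange_append) 31671 c4 c5 rfl rfl)) (allL_cons (allLt_of_allRange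 (rapp (allRange (chkBase 31671 20 (appB tabs t80 0xfffff) 3 (inv 3))) (fun _ _ _ => allRange_append) 31671 c6 c7 rfl rfl)) (allL_cons (allLt_of_allRange (rapp (allRange (chkBase 31671 20 (appB tabs t80 0xfffff) 4 (inv 4))) (fun _ _ _ => allRange_append) 31671 c8 c9 rfl rfl)) (allL_cons (allLt_of_allRange (rapp (allRange (chkBase 31671 20 (appB tabs t80 0xfffff) 5 (inv 5))) (fun _ _ _ => allRange_append) 31671 c10 c11 rfl rfl)) (allL_cons (allLt_of_allRange (rapp (allRange (chkBase 31671 20 (appB tabs t80 0xfffff) 6 (inv 6))) (fun _ _ _ => allRange_append) 31671 c12 c13 rfl rfl)) (allL_cons (allLt_of_allRange (rapp (allRange (chkBase 31671 20 (appB tabs t80 0xfffff) 7 (inv 7))) (fun _ _ _ => allRange_append) 31671 c14 c15 rfl rfl)) (allL_cons (allLt_of_allRange (rapp (allRange (chkBase 31671 20 (appB tabs t80 0xfffff) 8 (inv 8))) (fun _ _ _ => allRange_append) 31671 c16 c17 rfl rfl)) (allL_cons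 (allLt_of_allRange (rapp (allRange (chkBase 31671 20 (appB tabs t80 0xfffff) 9 (inv 9))) (fun _ _ _ => allRange_append) 31671 c18 c19 rfl rfl)) (allL_nil _)))))))))))
  defs := allRange_of_allL (l := [10,11,12,13,14,15,16,17,18,19,20,21,22,23,24,25,26,27,28,29,30,31,32,33,34,35,36,37,38,39,40,41,42,43,44,45,46,47,48,49,50,51,52,53,54,55,56,57,58,59,60,61,62,63,64,65,66,67,68,69,70,71,72,73,74,75,76,77,78,79]) (by decide +kernel) (allL_cons (rapp (chkDef 20 (appB tabs t80 0xfffff) 10 (slp 10)) (fun _ _ _ => chkDef_append) 31671 c20 c21 rfl rfl) (allL_cons (rapp (chkDef 20 (appB tabs t80 0xfffff) 11 (slp 11)) (fun _ _ _ => chkDef_append) 31671 c22 c23 rfl rfl) (allL_cons (rapp (chkDef 20 (appB tabs t80 0xfffff) 12 (slp 12)) (fun _ _ _ => chkDef_append) 31671 c24 c25 rfl rfl) (allL_cons (rapp (chkDef 20 (appB tabs t80 0xfffff) 13 (slp 13)) (fun _ _ _ => chkDef_append) 31671 c26 c27 rfl rfl)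 (allL_cons (rapp (chkDef 20 (appB tabs t80 0xfffff) 14 (slp 14)) (fun _ _ _ => chkDef_append) 31671 c28 c29 rfl rfl) (allL_cons (rapp (chkDef 20 (appB tabs t80 0xfffff) 15 (slp 15)) (fun _ _ _ => chkDef_append) 31671 c30 c31 rfl rfl) (allL_cons (rapp (chkDef 20 (appB tabs t80 0xfffff) 16 (slp 16)) (fun _ _ _ => chkDef_append) 31671 c32 c33 rfl rfl) (allL_cons (rapp (chkDef 20 (appB tabs t80 0xfffff) 17 (slp 17)) (fun _ _ _ => chkDef_append) 31671 c34 c35 rfl rfl) (allL_cons (rapp (chkDef 20 (appB tabs t80 0xfffff) 18 (slp 18)) (fun _ _ _ => chkDef_append) 31671 c36 c37 rfl rfl) (allL_cons (rapp (chkDef 20 (appB tabs t80 0xfffff) 19 (slp 19)) (fun _ _ _ => chkDef_append) 31671 c38 c39 rfl rfl) (allL_cons (rapp (chkDef 20 (appB tabs t80 0xfffff) 20 (slp 20)) (fun _ _ _ => chkDef_append) 31671 c40 c41 rfl rfl) (allL_cons (rapp (chkDef 20 (appB tabs t80 0xfffff) 21 (slp 21)) (fun _ _ _ => chkDef_append)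 31671 c42 c43 rfl rfl) (allL_cons (rapp (chkDef 20 (appB tabs t80 0xfffff) 22 (slp 22)) (fun _ _ _ => chkDef_append) 31671 c44 c45 rfl rfl) (allL_cons (rapp (chkDef 20 (appB tabs t80 0xfffff) 23 (slp 23)) (fun _ _ _ => chkDef_append) 31671 c46 c47 rfl rfl) (allL_cons (rapp (chkDef 20 (appB tabs t80 0xfffff) 24 (slp 24)) (fun _ _ _ => chkDef_append) 31671 c48 c49 rfl rfl) (allL_cons (rapp (chkDef 20 (appB tabs t80 0xfffff) 25 (slp 25)) (fun _ _ _ => chkDef_append) 31671 c50 c51 rfl rfl) (allL_cons (rapp (chkDef 20 (appB tabs t80 0xfffff) 26 (slp 26)) (fun _ _ _ => chkDef_append) 31671 c52 c53 rfl rfl) (allL_cons (rapp (chkDef 20 (appB tabs t80 0xfffff) 27 (slp 27)) (fun _ _ _ => chkDef_append) 31671 c54 c55 rfl rfl) (allL_cons (rapp (chkDef 20 (appB tabs t80 0xfffff) 28 (slp 28)) (fun _ _ _ => chkDef_append) 31671 c56 c57 rfl rfl) (allL_cons (rapp (chkDef 20 (appB tabs t80 0xfffff) 29 (slp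 29)) (fun _ _ _ => chkDef_append) 31671 c58 c59 rfl rfl) (allL_cons (rapp (chkDef 20 (appB tabs t80 0xfffff) 30 (slp 30)) (fun _ _ _ => chkDef_append) 31671 c60 c61 rfl rfl) (allL_cons (rapp (chkDef 20 (appB tabs t80 0xfffff) 31 (slp 31)) (fun _ _ _ => chkDef_append) 31671 c62 c63 rfl rfl) (allL_cons (rapp (chkDef 20 (appB tabs t80 0xfffff) 32 (slp 32)) (fun _ _ _ => chkDef_append) 31671 c64 c65 rfl rfl) (allL_cons (rapp (chkDef 20 (appB tabs t80 0xfffff) 33 (slp 33)) (fun _ _ _ => chkDef_append) 31671 c66 c67 rfl rfl) (allL_cons (rapp (chkDef 20 (appB tabs t80 0xfffff) 34 (slp 34)) (fun _ _ _ => chkDef_append) 31671 c68 c69 rfl rfl) (allL_cons (rapp (chkDef 20 (appB tabs t80 0xfffff) 35 (slp 35)) (fun _ _ _ => chkDef_append) 31671 c70 c71 rfl rfl) (allL_cons (rapp (chkDef 20 (appB tabs t80 0xfffff) 36 (slp 36)) (fun _ _ _ => chkDef_append) 31671 c72 c73 rfl rfl) (allL_cons (rapp (chkDef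 20 (appB tabs t80 0xfffff) 37 (slp 37)) (fun _ _ _ => chkDef_append) 31671 c74 c75 rfl rfl) (allL_cons (rapp (chkDef 20 (appB tabs t80 0xfffff) 38 (slp 38)) (fun _ _ _ => chkDef_append) 31671 c76 c77 rfl rfl) (allL_cons (rapp (chkDef 20 (appB tabs t80 0xfffff) 39 (slp 39)) (fun _ _ _ => chkDef_append) 31671 c78 c79 rfl rfl) (allL_cons (rapp (chkDef 20 (appB tabs t80 0xfffff) 40 (slp 40)) (fun _ _ _ => chkDef_append) 31671 c80 c81 rfl rfl) (allL_cons (rapp (chkDef 20 (appB tabs t80 0xfffff) 41 (slp 41)) (fun _ _ _ => chkDef_append) 31671 c82 c83 rfl rfl) (allL_cons (rapp (chkDef 20 (appB tabs t80 0xfffff) 42 (slp 42)) (fun _ _ _ => chkDef_append) 31671 c84 c85 rfl rfl) (allL_cons (rapp (chkDef 20 (appB tabs t80 0xfffff) 43 (slp 43)) (fun _ _ _ => chkDef_append) 31671 c86 c87 rfl rfl) (allL_cons (rapp (chkDef 20 (appB tabs t80 0xfffff) 44 (slp 44)) (fun _ _ _ => chkDef_append) 31671 c88 c89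 rfl rfl) (allL_cons (rapp (chkDef 20 (appB tabs t80 0xfffff) 45 (slp 45)) (fun _ _ _ => chkDef_append) 31671 c90 c91 rfl rfl) (allL_cons (rapp (chkDef 20 (appB tabs t80 0xfffff) 46 (slp 46)) (fun _ _ _ => chkDef_append) 31671 c92 c93 rfl rfl) (allL_cons (rapp (chkDef 20 (appB tabs t80 0xfffff) 47 (slp 47)) (fun _ _ _ => chkDef_append) 31671 c94 c95 rfl rfl) (allL_cons (rapp (chkDef 20 (appB tabs t80 0xfffff) 48 (slp 48)) (fun _ _ _ => chkDef_append) 31671 c96 c97 rfl rfl) (allL_cons (rapp (chkDef 20 (appB tabs t80 0xfffff) 49 (slp 49)) (fun _ _ _ => chkDef_append) 31671 c98 c99 rfl rfl) (allL_cons (rapp (chkDef 20 (appB tabs t80 0xfffff) 50 (slp 50)) (fun _ _ _ => chkDef_append) 31671 c100 c101 rfl rfl) (allL_cons (rapp (chkDef 20 (appB tabs t80 0xfffff) 51 (slp 51)) (fun _ _ _ => chkDef_append) 31671 c102 c103 rfl rfl) (allL_cons (rapp (chkDef 20 (appB tabs t80 0xfffff) 52 (slp 52)) (fun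 _ _ _ => chkDef_append) 31671 c104 c105 rfl rfl) (allL_cons (rapp (chkDef 20 (appB tabs t80 0xfffff) 53 (slp 53)) (fun _ _ _ => chkDef_append) 31671 c106 c107 rfl rfl) (allL_cons (rapp (chkDef 20 (appB tabs t80 0xfffff) 54 (slp 54)) (fun _ _ _ => chkDef_append) 31671 c108 c109 rfl rfl) (allL_cons (rapp (chkDef 20 (appB tabs t80 0xfffff) 55 (slp 55)) (fun _ _ _ => chkDef_append) 31671 c110 c111 rfl rfl) (allL_cons (rapp (chkDef 20 (appB tabs t80 0xfffff) 56 (slp 56)) (fun _ _ _ => chkDef_append) 31671 c112 c113 rfl rfl) (allL_cons (rapp (chkDef 20 (appB tabs t80 0xfffff) 57 (slp 57)) (fun _ _ _ => chkDef_append) 31671 c114 c115 rfl rfl) (allL_cons (rapp (chkDef 20 (appB tabs t80 0xfffff) 58 (slp 58)) (fun _ _ _ => chkDef_append) 31671 c116 c117 rfl rfl) (allL_cons (rapp (chkDef 20 (appB tabs t80 0xfffff) 59 (slp 59)) (fun _ _ _ => chkDef_append) 31671 c118 c119 rfl rfl) (allL_cons (rapp (chkDef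 20 (appB tabs t80 0xfffff) 60 (slp 60)) (fun _ _ _ => chkDef_append) 31671 c120 c121 rfl rfl) (allL_cons (rapp (chkDef 20 (appB tabs t80 0xfffff) 61 (slp 61)) (fun _ _ _ => chkDef_append) 31671 c122 c123 rfl rfl) (allL_cons (rapp (chkDef 20 (appB tabs t80 0xfffff) 62 (slp 62)) (fun _ _ _ => chkDef_append) 31671 c124 c125 rfl rfl) (allL_cons (rapp (chkDef 20 (appB tabs t80 0xfffff) 63 (slp 63)) (fun _ _ _ => chkDef_append) 31671 c126 c127 rfl rfl) (allL_cons (rapp (chkDef 20 (appB tabs t80 0xfffff) 64 (slp 64)) (fun _ _ _ => chkDef_append) 31671 c128 c129 rfl rfl) (allL_cons (rapp (chkDef 20 (appB tabs t80 0xfffff) 65 (slp 65)) (fun _ _ _ => chkDef_append) 31671 c130 c131 rfl rfl) (allL_cons (rapp (chkDef 20 (appB tabs t80 0xfffff) 66 (slp 66)) (fun _ _ _ => chkDef_append) 31671 c132 c133 rfl rfl) (allL_cons (rapp (chkDef 20 (appB tabs t80 0xfffff) 67 (slp 67)) (fun _ _ _ => chkDef_append)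 31671 c134 c135 rfl rfl) (allL_cons (rapp (chkDef 20 (appB tabs t80 0xfffff) 68 (slp 68)) (fun _ _ _ => chkDef_append) 31671 c136 c137 rfl rfl) (allL_cons (rapp (chkDef 20 (appB tabs t80 0xfffff) 69 (slp 69)) (fun _ _ _ => chkDef_append) 31671 c138 c139 rfl rfl) (allL_cons (rapp (chkDef 20 (appB tabs t80 0xfffff) 70 (slp 70)) (fun _ _ _ => chkDef_append) 31671 c140 c141 rfl rfl) (allL_cons (rapp (chkDef 20 (appB tabs t80 0xfffff) 71 (slp 71)) (fun _ _ _ => chkDef_append) 31671 c142 c143 rfl rfl) (allL_cons (rapp (chkDef 20 (appB tabs t80 0xfffff) 72 (slp 72)) (fun _ _ _ => chkDef_append) 31671 c144 c145 rfl rfl) (allL_cons (rapp (chkDef 20 (appB tabs t80 0xfffff) 73 (slp 73)) (fun _ _ _ => chkDef_append) 31671 c146 c147 rfl rfl) (allL_cons (rapp (chkDef 20 (appB tabs t80 0xfffff) 74 (slp 74)) (fun _ _ _ => chkDef_append) 31671 c148 c149 rfl rfl) (allL_cons (rapp (chkDef 20 (appB tabs t80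 0xfffff) 75 (slp 75)) (fun _ _ _ => chkDef_append) 31671 c150 c151 rfl rfl) (allL_cons (rapp (chkDef 20 (appB tabs t80 0xfffff) 76 (slp 76)) (fun _ _ _ => chkDef_append) 31671 c152 c153 rfl rfl) (allL_cons (rapp (chkDef 20 (appB tabs t80 0xfffff) 77 (slp 77)) (fun _ _ _ => chkDef_append) 31671 c154 c155 rfl rfl) (allL_cons (rapp (chkDef 20 (appB tabs t80 0xfffff) 78 (slp 78)) (fun _ _ _ => chkDef_append) 31671 c156 c157 rfl rfl) (allL_cons (rapp (chkDef 20 (appB tabs t80 0xfffff) 79 (slp 79)) (fun _ _ _ => chkDef_append) 31671 c158 c159 rfl rfl) (allL_nil _)))))))))))))))))))))))))))))))))))))))))))))))))))))))))))))))))))))))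
  lt := by decide +kernel
  triv := appB_triv (by decide +kernel)
  trivk := (rapp (chkDef 20 (appB tabs t80 0xfffff) 80 (false, [])) (fun _ _ _ => chkDef_append) 31671 c160 c161 rfl rfl)

/-- The group generated by the basic tables. -/
noncomputable abbrev PG : Subgroup (Equiv.Perm (Fin 31671)) := tabGroup 31671 20 app 10

noncomputable def act : Act PG (Fin 31671) := tabOK.act

theorem chain : ChainOK act mc [] :=
  chainOK_of_chk act mc [] (by simp) (okc_of_okcb c170) c171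
  (allL_cons (rapp (mc0.chk (appB tabs t80 0xfffff)) (fun _ _ _ => Lvl.chk_append) 31670 c162 c163 rfl rfl) (allL_cons (rapp (mc1.chk (appB tabs t80 0xfffff)) (fun _ _ _ => Lvl.chk_append) 28159 c164 c165 rfl rfl) (allL_cons (rapp (mc2.chk (appB tabs t80 0xfffff)) (fun _ _ _ => Lvl.chk_append) 21839 c166 c167 rfl rfl) (allL_cons c168 (allL_cons c169 (allL_nil _))))))

theorem rels : ∀ v ∈ tcR, ev act.gen v = 1 :=
  tabOK.rels (allL_cons (rapp (oneAll 20 (appB tabs t80 0xfffff) [0,0]) (fun _ _ _ => oneAll_append) 31671 c172 c173 rfl rfl) (allL_cons (rapp (oneAll 20 (appB tabs t80 0xfffff) [1,1]) (fun _ _ _ => oneAll_append) 31671 c174 c175 rfl rfl) (allL_cons (rapp (oneAll 20 (appB tabs t80 0xfffff) [2,2]) (fun _ _ _ => oneAll_append) 31671 c176 c177 rfl rfl) (allL_cons (rapp (oneAll 20 (appB tabs t80 0xfffff) [3,3]) (fun _ _ _ => oneAll_append) 31671 c178 c179 rfl rfl) (allL_cons (rapp (oneAll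 20 (appB tabs t80 0xfffff) [4,4]) (fun _ _ _ => oneAll_append) 31671 c180 c181 rfl rfl) (allL_cons (rapp (oneAll 20 (appB tabs t80 0xfffff) [5,5]) (fun _ _ _ => oneAll_append) 31671 c182 c183 rfl rfl) (allL_cons (rapp (oneAll 20 (appB tabs t80 0xfffff) [6,6]) (fun _ _ _ => oneAll_append) 31671 c184 c185 rfl rfl) (allL_cons (rapp (oneAll 20 (appB tabs t80 0xfffff) [7,7]) (fun _ _ _ => oneAll_append) 31671 c186 c187 rfl rfl) (allL_cons (rapp (oneAll 20 (appB tabs t80 0xfffff) [8,8]) (fun _ _ _ => oneAll_append) 31671 c188 c189 rfl rfl) (allL_cons (rapp (oneAll 20 (appB tabs t80 0xfffff) [9,9]) (fun _ _ _ => oneAll_append) 31671 c190 c191 rfl rfl) (allL_cons (rapp (oneAll 20 (appB tabs t80 0xfffff) [0,1,0,1,0,1]) (fun _ _ _ => oneAll_append) 31671 c192 c193 rfl rfl) (allL_cons (rapp (oneAll 20 (appB tabs t80 0xfffff) [0,2,0,2]) (fun _ _ _ => oneAll_append) 31671 c194 c195 rfl rfl) (allL_cons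 (rapp (oneAll 20 (appB tabs t80 0xfffff) [0,3,0,3]) (fun _ _ _ => oneAll_append) 31671 c196 c197 rfl rfl) (allL_cons (rapp (oneAll 20 (appB tabs t80 0xfffff) [0,4,0,4]) (fun _ _ _ => oneAll_append) 31671 c198 c199 rfl rfl) (allL_cons (rapp (oneAll 20 (appB tabs t80 0xfffff) [0,5,0,5]) (fun _ _ _ => oneAll_append) 31671 c200 c201 rfl rfl) (allL_cons (rapp (oneAll 20 (appB tabs t80 0xfffff) [0,6,0,6]) (fun _ _ _ => oneAll_append) 31671 c202 c203 rfl rfl) (allL_cons (rapp (oneAll 20 (appB tabs t80 0xfffff) [0,7,0,7]) (fun _ _ _ => oneAll_append) 31671 c204 c205 rfl rfl) (allL_cons (rapp (oneAll 20 (appB tabs t80 0xfffff) [0,8,0,8]) (fun _ _ _ => oneAll_append) 31671 c206 c207 rfl rfl) (allL_cons (rapp (oneAll 20 (appB tabs t80 0xfffff) [0,9,0,9]) (fun _ _ _ => oneAll_append) 31671 c208 c209 rfl rfl) (allL_cons (rapp (oneAll 20 (appB tabs t80 0xfffff) [1,2,1,2,1,2]) (fun _ _ _ => oneAll_append)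 31671 c210 c211 rfl rfl) (allL_cons (rapp (oneAll 20 (appB tabs t80 0xfffff) [1,3,1,3]) (fun _ _ _ => oneAll_append) 31671 c212 c213 rfl rfl) (allL_cons (rapp (oneAll 20 (appB tabs t80 0xfffff) [1,4,1,4]) (fun _ _ _ => oneAll_append) 31671 c214 c215 rfl rfl) (allL_cons (rapp (oneAll 20 (appB tabs t80 0xfffff) [1,5,1,5]) (fun _ _ _ => oneAll_append) 31671 c216 c217 rfl rfl) (allL_cons (rapp (oneAll 20 (appB tabs t80 0xfffff) [1,6,1,6]) (fun _ _ _ => oneAll_append) 31671 c218 c219 rfl rfl) (allL_cons (rapp (oneAll 20 (appB tabs t80 0xfffff) [1,7,1,7]) (fun _ _ _ => oneAll_append) 31671 c220 c221 rfl rfl) (allL_cons (rapp (oneAll 20 (appB tabs t80 0xfffff) [1,8,1,8]) (fun _ _ _ => oneAll_append) 31671 c222 c223 rfl rfl) (allL_cons (rapp (oneAll 20 (appB tabs t80 0xfffff) [1,9,1,9]) (fun _ _ _ => oneAll_append) 31671 c224 c225 rfl rfl) (allL_cons (rapp (oneAll 20 (appB tabs t80 0xfffff) [2,3,2,3,2,3])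 (fun _ _ _ => oneAll_append) 31671 c226 c227 rfl rfl) (allL_cons (rapp (oneAll 20 (appB tabs t80 0xfffff) [2,4,2,4]) (fun _ _ _ => oneAll_append) 31671 c228 c229 rfl rfl) (allL_cons (rapp (oneAll 20 (appB tabs t80 0xfffff) [2,5,2,5]) (fun _ _ _ => oneAll_append) 31671 c230 c231 rfl rfl) (allL_cons (rapp (oneAll 20 (appB tabs t80 0xfffff) [2,6,2,6]) (fun _ _ _ => oneAll_append) 31671 c232 c233 rfl rfl) (allL_cons (rapp (oneAll 20 (appB tabs t80 0xfffff) [2,7,2,7]) (fun _ _ _ => oneAll_append) 31671 c234 c235 rfl rfl) (allL_cons (rapp (oneAll 20 (appB tabs t80 0xfffff) [2,8,2,8]) (fun _ _ _ => oneAll_append) 31671 c236 c237 rfl rfl) (allL_cons (rapp (oneAll 20 (appB tabs t80 0xfffff) [2,9,2,9]) (fun _ _ _ => oneAll_append) 31671 c238 c239 rfl rfl) (allL_cons (rapp (oneAll 20 (appB tabs t80 0xfffff) [3,4,3,4,3,4]) (fun _ _ _ => oneAll_append) 31671 c240 c241 rfl rfl) (allL_cons (rapp (oneAll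 20 (appB tabs t80 0xfffff) [3,5,3,5]) (fun _ _ _ => oneAll_append) 31671 c242 c243 rfl rfl) (allL_cons (rapp (oneAll 20 (appB tabs t80 0xfffff) [3,6,3,6]) (fun _ _ _ => oneAll_append) 31671 c244 c245 rfl rfl) (allL_cons (rapp (oneAll 20 (appB tabs t80 0xfffff) [3,7,3,7]) (fun _ _ _ => oneAll_append) 31671 c246 c247 rfl rfl) (allL_cons (rapp (oneAll 20 (appB tabs t80 0xfffff) [3,8,3,8,3,8]) (fun _ _ _ => oneAll_append) 31671 c248 c249 rfl rfl) (allL_cons (rapp (oneAll 20 (appB tabs t80 0xfffff) [3,9,3,9]) (fun _ _ _ => oneAll_append) 31671 c250 c251 rfl rfl) (allL_cons (rapp (oneAll 20 (appB tabs t80 0xfffff) [4,5,4,5,4,5]) (fun _ _ _ => oneAll_append) 31671 c252 c253 rfl rfl) (allL_cons (rapp (oneAll 20 (appB tabs t80 0xfffff) [4,6,4,6]) (fun _ _ _ => oneAll_append) 31671 c254 c255 rfl rfl) (allL_cons (rapp (oneAll 20 (appB tabs t80 0xfffff) [4,7,4,7]) (fun _ _ _ => oneAll_append) 31671 c256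 c257 rfl rfl) (allL_cons (rapp (oneAll 20 (appB tabs t80 0xfffff) [4,8,4,8]) (fun _ _ _ => oneAll_append) 31671 c258 c259 rfl rfl) (allL_cons (rapp (oneAll 20 (appB tabs t80 0xfffff) [4,9,4,9]) (fun _ _ _ => oneAll_append) 31671 c260 c261 rfl rfl) (allL_cons (rapp (oneAll 20 (appB tabs t80 0xfffff) [5,6,5,6,5,6]) (fun _ _ _ => oneAll_append) 31671 c262 c263 rfl rfl) (allL_cons (rapp (oneAll 20 (appB tabs t80 0xfffff) [5,7,5,7]) (fun _ _ _ => oneAll_append) 31671 c264 c265 rfl rfl) (allL_cons (rapp (oneAll 20 (appB tabs t80 0xfffff) [5,8,5,8]) (fun _ _ _ => oneAll_append) 31671 c266 c267 rfl rfl) (allL_cons (rapp (oneAll 20 (appB tabs t80 0xfffff) [5,9,5,9]) (fun _ _ _ => oneAll_append) 31671 c268 c269 rfl rfl) (allL_cons (rapp (oneAll 20 (appB tabs t80 0xfffff) [6,7,6,7,6,7]) (fun _ _ _ => oneAll_append) 31671 c270 c271 rfl rfl) (allL_cons (rapp (oneAll 20 (appB tabs t80 0xfffff) [6,8,6,8])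 (fun _ _ _ => oneAll_append) 31671 c272 c273 rfl rfl) (allL_cons (rapp (oneAll 20 (appB tabs t80 0xfffff) [6,9,6,9]) (fun _ _ _ => oneAll_append) 31671 c274 c275 rfl rfl) (allL_cons (rapp (oneAll 20 (appB tabs t80 0xfffff) [7,8,7,8]) (fun _ _ _ => oneAll_append) 31671 c276 c277 rfl rfl) (allL_cons (rapp (oneAll 20 (appB tabs t80 0xfffff) [7,9,7,9]) (fun _ _ _ => oneAll_append) 31671 c278 c279 rfl rfl) (allL_cons (rapp (oneAll 20 (appB tabs t80 0xfffff) [8,9,8,9,8,9]) (fun _ _ _ => oneAll_append) 31671 c280 c281 rfl rfl) (allL_cons (rapp (oneAll 20 (appB tabs t80 0xfffff) [3,2,1,3,4,5,3,8,9,3,2,1,3,4,5,3,8,9,3,2,1,3,4,5,3,8,9,3,2,1,3,4,5,3,8,9,3,2,1,3,4,5,3,8,9,3,2,1,3,4,5,3,8,9,3,2,1,3,4,5,3,8,9,3,2,1,3,4,5,3,8,9,3,2,1,3,4,5,3,8,9,3,2,1,3,4,5,3,8,9]) (fun _ _ _ => oneAll_append) 31671 (rapp (oneAll 20 (appB tabs t80 0xfffff) [3,2,1,3,4,5,3,8,9,3,2,1,3,4,5,3,8,9,3,2,1,3,4,5,3,8,9,3,2,1,3,4,5,3,8,9,3,2,1,3,4,5,3,8,9,3,2,1,3,4,5,3,8,9,3,2,1,3,4,5,3,8,9,3,2,1,3,4,5,3,8,9,3,2,1,3,4,5,3,8,9,3,2,1,3,4,5,3,8,9])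 (fun _ _ _ => oneAll_append) 28230 (rapp (oneAll 20 (appB tabs t80 0xfffff) [3,2,1,3,4,5,3,8,9,3,2,1,3,4,5,3,8,9,3,2,1,3,4,5,3,8,9,3,2,1,3,4,5,3,8,9,3,2,1,3,4,5,3,8,9,3,2,1,3,4,5,3,8,9,3,2,1,3,4,5,3,8,9,3,2,1,3,4,5,3,8,9,3,2,1,3,4,5,3,8,9,3,2,1,3,4,5,3,8,9]) (fun _ _ _ => oneAll_append) 23525 (rapp (oneAll 20 (appB tabs t80 0xfffff) [3,2,1,3,4,5,3,8,9,3,2,1,3,4,5,3,8,9,3,2,1,3,4,5,3,8,9,3,2,1,3,4,5,3,8,9,3,2,1,3,4,5,3,8,9,3,2,1,3,4,5,3,8,9,3,2,1,3,4,5,3,8,9,3,2,1,3,4,5,3,8,9,3,2,1,3,4,5,3,8,9,3,2,1,3,4,5,3,8,9]) (fun _ _ _ => oneAll_append) 18820 (rapp (oneAll 20 (appB tabs t80 0xfffff) [3,2,1,3,4,5,3,8,9,3,2,1,3,4,5,3,8,9,3,2,1,3,4,5,3,8,9,3,2,1,3,4,5,3,8,9,3,2,1,3,4,5,3,8,9,3,2,1,3,4,5,3,8,9,3,2,1,3,4,5,3,8,9,3,2,1,3,4,5,3,8,9,3,2,1,3,4,5,3,8,9,3,2,1,3,4,5,3,8,9]) (fun _ _ _ => oneAll_append) 14115 (rapp (oneAll 20 (appB tabs t80 0xfffff) [3,2,1,3,4,5,3,8,9,3,2,1,3,4,5,3,8,9,3,2,1,3,4,5,3,8,9,3,2,1,3,4,5,3,8,9,3,2,1,3,4,5,3,8,9,3,2,1,3,4,5,3,8,9,3,2,1,3,4,5,3,8,9,3,2,1,3,4,5,3,8,9,3,2,1,3,4,5,3,8,9,3,2,1,3,4,5,3,8,9])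 (fun _ _ _ => oneAll_append) 9410 c282 c283 rfl rfl) c284 rfl rfl) c285 rfl rfl) c286 rfl rfl) c287 rfl rfl) c288 rfl rfl) (allL_cons (rapp (oneAll 20 (appB tabs t80 0xfffff) [0,1,2,3,4,5,8,0,1,2,3,4,5,8,0,1,2,3,4,5,8,0,1,2,3,4,5,8,0,1,2,3,4,5,8,0,1,2,3,4,5,8,0,1,2,3,4,5,8,0,1,2,3,4,5,8,0,1,2,3,4,5,8]) (fun _ _ _ => oneAll_append) 31671 (rapp (oneAll 20 (appB tabs t80 0xfffff) [0,1,2,3,4,5,8,0,1,2,3,4,5,8,0,1,2,3,4,5,8,0,1,2,3,4,5,8,0,1,2,3,4,5,8,0,1,2,3,4,5,8,0,1,2,3,4,5,8,0,1,2,3,4,5,8,0,1,2,3,4,5,8]) (fun _ _ _ => oneAll_append) 26752 (rapp (oneAll 20 (appB tabs t80 0xfffff) [0,1,2,3,4,5,8,0,1,2,3,4,5,8,0,1,2,3,4,5,8,0,1,2,3,4,5,8,0,1,2,3,4,5,8,0,1,2,3,4,5,8,0,1,2,3,4,5,8,0,1,2,3,4,5,8,0,1,2,3,4,5,8]) (fun _ _ _ => oneAll_append) 20064 (rapp (oneAll 20 (appB tabs t80 0xfffff) [0,1,2,3,4,5,8,0,1,2,3,4,5,8,0,1,2,3,4,5,8,0,1,2,3,4,5,8,0,1,2,3,4,5,8,0,1,2,3,4,5,8,0,1,2,3,4,5,8,0,1,2,3,4,5,8,0,1,2,3,4,5,8])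 (fun _ _ _ => oneAll_append) 13376 c289 c290 rfl rfl) c291 rfl rfl) c292 rfl rfl) c293 rfl rfl) (allL_nil _))))))))))))))))))))))))))))))))))))))))))))))))))))))))))

theorem clS : cl act.gen tcS = ⊤ := tabOK.clS (by decide +kernel)

theorem prod_mc : prodN mc = 4089470473293004800 := by decide +kernel

theorem le_card : 4089470473293004800 ≤ Nat.card PG := prod_mc ▸ chain.prodN_le_card

variable [hb : Fact (Bounds tcR tcS 4089470473293004800)]
include hb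

theorem bounds : Bounds tcR tcS 4089470473293004800 := hb.out

theorem card_le : Nat.card PG ≤ prodN mc := prod_mc ▸ (bounds.card_le rels clS).2

theorem card : Nat.card PG = 4089470473293004800 := prod_mc ▸ chain.card_eq card_le

theorem base : act.IsBase bs := (show bases mc = bs from (eqL_iff _ _).1 (by decide +kernel)) ▸ chain.isBase card_le

theorem hinv : ∀ a, act.gen (inv a) = (act.gen a)⁻¹ :=
  tabOK.inv (by decide) base (by decide +kernel) (by decide +kernel)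

theorem clAT : cl act.gen [17, 19] = ⊤ :=
  tabOK.cl_eq_top_of_chain (lo := 17) (cnt := 37) (by decide) (by decide) (by decide +kernel) chain card_le (by decide +kernel)

end Cfsg.Agent.CG.Fi23
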