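import Cfsg.Agent.Lib.Grp.Fi23.ODefs

set_option autoImplicit false
set_option maxRecDepth 100000
set_option Elab.async false
set_option linter.unusedSectionVars false

namespace Cfsg.Agent.CG.Fi23

theorem Oc327 : en.chk (appB tabs t80 0xfffff) tst 5345 1069 140702919094285474334680 152670000088399080881800 = true := by decide +kernel
theorem Oc328 : en.chk (appB tabs t80 0xfffff) tst 6414 1069 152670000088399080881800 152670197143109779295400 = true := by decide +kernel
theorem Oc329 : en.chk (appB tabs t80 0xfffff) tst 7483 1069 152670197143109779295400 152670394307247604268680 = true := by decide +kernel
theorem Oc330 : en.chk (appB tabs t80 0xfffff) tst 8552 1069 152670394307247604268680 160809952861858719936840 = true := by decide +kernel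
theorem Oc331 : en.chk (appB tabs t80 0xfffff) tst 9621 1069 160809952861858719936840 188618013943353898449720 = true := by decide +kernel
theorem Oc332 : en.chk (appB tabs t80 0xfffff) tst 10690 1069 188618013943353898449720 216426966134946980653420 = true := by decide +kernel
theorem Oc333 : en.chk (appB tabs t80 0xfffff) tst 11759 1069 216426966134946980653420 244788402974251297014840 = true := by decide +kernel
theorem Oc334 : en.chk (appB tabs t80 0xfffff) tst 12828 1069 244788402974251297014840 272735792035947505265860 = true := by decide +kernel
theorem Oc335 : en.chk (appB tabs t80 0xfffff) tst 13897 1069 272735792035947505265860 300451569764343543774080 = true := by decide +kernel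
theorem Oc336 : en.chk (appB tabs t80 0xfffff) tst 14966 1069 300451569764343543774080 328329299047377597943680 = true := by decide +kernel
theorem Oc337 : en.chk (appB tabs t80 0xfffff) tst 16035 1069 328329299047377597943680 355376977996960194014380 = true := by decide +kernel
theorem Oc338 : en.chk (appB tabs t80 0xfffff) tst 17104 1069 355376977996960194014380 382816247660714414606460 = true := by decide +kernel
theorem Oc339 : en.chk (appB tabs t80 0xfffff) tst 18173 1069 382816247660714414606460 410532366590396764519900 = true := by decide +kernel
theorem Oc340 : en.chk (appB tabs t80 0xfffff) tst 19242 1069 410532366590396764519900 437948935077468045539640 = true := by decide +kernel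
theorem Oc341 : en.chk (appB tabs t80 0xfffff) tst 20311 1069 437948935077468045539640 465480982852334245909840 = true := by decide +kernel
theorem Oc342 : en.chk (appB tabs t80 0xfffff) tst 21380 1069 465480982852334245909840 492643375741204808746060 = true := by decide +kernel
theorem Oc343 : en.chk (appB tabs t80 0xfffff) tst 22449 1069 492643375741204808746060 520221697188771933014000 = true := by decide +kernel
theorem Oc344 : en.chk (appB tabs t80 0xfffff) tst 23518 1069 520221697188771933014000 547568759564530320907380 = true := by decide +kernel
theorem Oc345 : en.chk (appB tabs t80 0xfffff) tst 24587 1069 547568759564530320907380 574893443910392527543800 = true := by decide +kernel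
theorem Oc346 : en.chk (appB tabs t80 0xfffff) tst 25656 1069 574893443910392527543800 602148196985397324547160 = true := by decide +kernel
theorem Oc347 : en.chk (appB tabs t80 0xfffff) tst 26725 1069 602148196985397324547160 629265147938104410308840 = true := by decide +kernel
theorem Oc348 : en.chk (appB tabs t80 0xfffff) tst 27794 1069 629265147938104410308840 656381602505990875669280 = true := by decide +kernel
theorem Oc349 : en.chk (appB tabs t80 0xfffff) tst 28863 1069 656381602505990875669280 684282659532713146812560 = true := by decide +kernel
theorem Oc350 : en.chk (appB tabs t80 0xfffff) tst 29932 1069 684282659532713146812560 712183022328384009292200 = true := by decide +kernel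
theorem Oc351 : en.chk (appB tabs t80 0xfffff) tst 31001 670 712183022328384009292200 730238005109338386209361 = true := by decide +kernel
theorem Oc352 : commAll (appB tabs t80 0xfffff) bs 19 cc = true := by decide +kernel
theorem Oc353 : relChk (appB tabs t80 0xfffff) bs 17 19 rT = true := by decide +kernel

end Cfsg.Agent.CG.Fi23
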