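import Cfsg.Agent.Lib.Grp.Fi23.OC0
import Cfsg.Agent.Lib.Grp.Fi23.OC1
import Cfsg.Agent.Lib.Grp.Fi23.Main

set_option autoImplicit false
set_option maxRecDepth 100000
set_option Elab.async false
set_option linter.unusedSectionVars false

namespace Cfsg.Agent.CG.Fi23

theorem chainC : ChainOK act cc [] :=
  chainOK_of_chk act cc [] (by simp) (okc_of_okcb Oc300) Oc301
  (allL_cons (rapp (cc0.chk (appB tabs t80 0xfffff)) (fun _ _ _ => Lvl.chk_append) 28159 Oc294 Oc295 rfl rfl) (allL_cons (rapp (cc1.chk (appB tabs t80 0xfffff)) (fun _ _ _ => Lvl.chk_append) 21839 Oc296 Oc297 rfl rfl) (allL_cons Oc298 (allL_cons Oc299 (allL_nil _)))))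

variable [hb : Fact (Bounds tcR tcS 4089470473293004800)]
include hb

theorem cardP : Nat.card (cl act.gen pS) = 13 ^ 1 :=
  card_cl_singleton base (by norm_num) (by decide +kernel) (by decide +kernel)

theorem centP : ∀ g ∈ Subgroup.centralizer (cl act.gen pS : Set PG), ∃ φ ∈ pF, g = ev act.gen φ :=
  centralizer_subset (l := mc0) (L := [mc1, mc2, mc3, mc4]) chain card_le base (Q := pQ) (Rf := pR) (by decide +kernel) (by decide +kernel) (by decide +kernel)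
    (rapp (trChk (appB tabs t80 0xfffff) mc0 [mc1, mc2, mc3, mc4] bs (diagQ pQ) (diagQ pR) pF) (fun _ _ _ => trChk_append) 31671 (rapp (trChk (appB tabs t80 0xfffff) mc0 [mc1, mc2, mc3, mc4] bs (diagQ pQ) (diagQ pR) pF) (fun _ _ _ => trChk_append) 30345 (rapp (trChk (appB tabs t80 0xfffff) mc0 [mc1, mc2, mc3, mc4] bs (diagQ pQ) (diagQ pR) pF) (fun _ _ _ => trChk_append) 28560 (rapp (trChk (appB tabs t80 0xfffff) mc0 [mc1, mc2, mc3, mc4] bs (diagQ pQ) (diagQ pR) pF) (fun _ _ _ => trChk_append) 26775 (rapp (trChk (appB tabs t80 0xfffff) mc0 [mc1, mc2, mc3, mc4] bs (diagQ pQ) (diagQ pR) pF) (fun _ _ _ => trChk_append) 24990 (rapp (trChk (appB tabs t80 0xfffff) mc0 [mc1, mc2, mc3, mc4] bs (diagQ pQ) (diagQ pR) pF) (fun _ _ _ => trChk_append) 23205 (rapp (trChk (appB tabs t80 0xfffff) mc0 [mc1, mc2, mc3, mc4] bs (diagQ pQ) (diagQ pR) pF) (fun _ _ _ => trChk_append) 21420 (rapp (trChk (appB tabs t80 0xfffff)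 mc0 [mc1, mc2, mc3, mc4] bs (diagQ pQ) (diagQ pR) pF) (fun _ _ _ => trChk_append) 19635 (rapp (trChk (appB tabs t80 0xfffff) mc0 [mc1, mc2, mc3, mc4] bs (diagQ pQ) (diagQ pR) pF) (fun _ _ _ => trChk_append) 17850 (rapp (trChk (appB tabs t80 0xfffff) mc0 [mc1, mc2, mc3, mc4] bs (diagQ pQ) (diagQ pR) pF) (fun _ _ _ => trChk_append) 16065 (rapp (trChk (appB tabs t80 0xfffff) mc0 [mc1, mc2, mc3, mc4] bs (diagQ pQ) (diagQ pR) pF) (fun _ _ _ => trChk_append) 14280 (rapp (trChk (appB tabs t80 0xfffff) mc0 [mc1, mc2, mc3, mc4] bs (diagQ pQ) (diagQ pR) pF) (fun _ _ _ => trChk_append) 12495 (rapp (trChk (appB tabs t80 0xfffff) mc0 [mc1, mc2, mc3, mc4] bs (diagQ pQ) (diagQ pR) pF) (fun _ _ _ => trChk_append) 10710 (rapp (trChk (appB tabs t80 0xfffff) mc0 [mc1, mc2, mc3, mc4] bs (diagQ pQ) (diagQ pR) pF) (fun _ _ _ => trChk_append) 8925 (rapp (trChk (appB tabs t80 0xfffff) mc0 [mc1, mc2, mc3, mc4] bs (diagQ pQ) (diagQ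 pR) pF) (fun _ _ _ => trChk_append) 7140 (rapp (trChk (appB tabs t80 0xfffff) mc0 [mc1, mc2, mc3, mc4] bs (diagQ pQ) (diagQ pR) pF) (fun _ _ _ => trChk_append) 5355 (rapp (trChk (appB tabs t80 0xfffff) mc0 [mc1, mc2, mc3, mc4] bs (diagQ pQ) (diagQ pR) pF) (fun _ _ _ => trChk_append) 3570 Oc302 Oc303 rfl rfl) Oc304 rfl rfl) Oc305 rfl rfl) Oc306 rfl rfl) Oc307 rfl rfl) Oc308 rfl rfl) Oc309 rfl rfl) Oc310 rfl rfl) Oc311 rfl rfl) Oc312 rfl rfl) Oc313 rfl rfl) Oc314 rfl rfl) Oc315 rfl rfl) Oc316 rfl rfl) Oc317 rfl rfl) Oc318 rfl rfl) Oc319 rfl rfl)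

theorem autT (φ : MulAut PG) : ∃ g : PG, φ (act.gen 19) = g * act.gen 19 * g⁻¹ :=
  aut_class base (r := 13) (by norm_num) cardP (not_dvd_of_eq card (by decide +kernel)) centP
    Oc320 φ

theorem autA (φ : MulAut PG) : ∃ g : PG, ∃ a' ∈ aK, g * φ (act.gen 17) * g⁻¹ = act.gen a' :=
  aut_pow base (p := 17) (by norm_num) (not_dvd_of_eq card (by decide +kernel))
    Oc321 φ

theorem enumOK : en.OK app tst 0 31671 0 730238005109338386209361 :=
  (Enum.OK.append (Enum.OK.append (Enum.OK.append (Enum.OK.append (Enum.OK.append (Enum.OK.append (Enum.OK.append (Enum.OK.append (Enum.OK.append (Enum.OK.append (Enum.OK.append (Enum.OK.append (Enum.OK.append (Enum.OK.append (Enum.OK.append (Enum.OK.append (Enum.OK.append (Enum.OK.append (Enum.OK.append (Enum.OK.append (Enum.OK.append (Enum.OK.append (Enum.OK.append (Enum.OK.append (Enum.OK.append (Enum.OK.append (Enum.OK.append (Enum.OK.append (Enum.OK.append (Enum.ok_of_chk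 Oc322)
  (Enum.ok_of_chk Oc323))
  (Enum.ok_of_chk Oc324))
  (Enum.ok_of_chk Oc325))
  (Enum.ok_of_chk Oc326))
  (Enum.ok_of_chk Oc327))
  (Enum.ok_of_chk Oc328))
  (Enum.ok_of_chk Oc329))
  (Enum.ok_of_chk Oc330))
  (Enum.ok_of_chk Oc331))
  (Enum.ok_of_chk Oc332))
  (Enum.ok_of_chk Oc333))
  (Enum.ok_of_chk Oc334))
  (Enum.ok_of_chk Oc335))
  (Enum.ok_of_chk Oc336))
  (Enum.ok_of_chk Oc337))
  (Enum.ok_of_chk Oc338))
  (Enum.ok_of_chk Oc339))
  (Enum.ok_of_chk Oc340))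
  (Enum.ok_of_chk Oc341))
  (Enum.ok_of_chk Oc342))
  (Enum.ok_of_chk Oc343))
  (Enum.ok_of_chk Oc344))
  (Enum.ok_of_chk Oc345))
  (Enum.ok_of_chk Oc346))
  (Enum.ok_of_chk Oc347))
  (Enum.ok_of_chk Oc348))
  (Enum.ok_of_chk Oc349))
  (Enum.ok_of_chk Oc350))
  (Enum.ok_of_chk Oc351))

theorem cent_le : prodN cc ≤ Nat.card (Subgroup.centralizer {act.gen 19}) :=
  le_card_centralizer base chainC Oc352

theorem classAll (g : PG) : ∃ f, act.Rep (g * act.gen 19 * g⁻¹) f ∧ tst f = true :=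
  Enum.OK.all (A := act) (E := en) enumOK hinv (okc_of_okcb (n := 31671) (w := 20) (by decide +kernel)) cent_le
    (card ▸ (ble_iff _ _).1 (by decide +kernel)) g

theorem autPair (φ : MulAut PG) : ∃ s ∈ [(17, 19)], ∃ g : PG, φ (act.gen 17) = g * act.gen s.1 * g⁻¹ ∧ φ (act.gen 19) = g * act.gen s.2 * g⁻¹ :=
  aut_pair base Oc353 (okc_of_okcb (n := 31671) (w := 20) (by decide +kernel)) autA autT classAll φ

theorem card_out : Nat.card (Out PG) = 1 := card_out_eq_one clAT autPair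

end Cfsg.Agent.CG.Fi23
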