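import Cfsg.Agent.Lib.Grp.Fi23.Defs

set_option autoImplicit false
set_option maxRecDepth 100000
set_option Elab.async false
set_option linter.unusedSectionVars false

namespace Cfsg.Agent.CG.Fi23

theorem c0 : allRange (chkBase 31671 20 (appB tabs t80 0xfffff) 0 (inv 0)) 0 20000 = true := by decide +kernel
theorem c1 : allRange (chkBase 31671 20 (appB tabs t80 0xfffff) 0 (inv 0)) 20000 11671 = true := by decide +kernel
theorem c2 : allRange (chkBase 31671 20 (appB tabs t80 0xfffff) 1 (inv 1)) 0 20000 = true := by decide +kernel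
theorem c3 : allRange (chkBase 31671 20 (appB tabs t80 0xfffff) 1 (inv 1)) 20000 11671 = true := by decide +kernel
theorem c4 : allRange (chkBase 31671 20 (appB tabs t80 0xfffff) 2 (inv 2)) 0 20000 = true := by decide +kernel
theorem c5 : allRange (chkBase 31671 20 (appB tabs t80 0xfffff) 2 (inv 2)) 20000 11671 = true := by decide +kernel
theorem c6 : allRange (chkBase 31671 20 (appB tabs t80 0xfffff) 3 (inv 3)) 0 20000 = true := by decide +kernel
theorem c7 : allRange (chkBase 31671 20 (appB tabs t80 0xfffff) 3 (inv 3)) 20000 11671 = true := by decide +kernel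
theorem c8 : allRange (chkBase 31671 20 (appB tabs t80 0xfffff) 4 (inv 4)) 0 20000 = true := by decide +kernel
theorem c9 : allRange (chkBase 31671 20 (appB tabs t80 0xfffff) 4 (inv 4)) 20000 11671 = true := by decide +kernel
theorem c10 : allRange (chkBase 31671 20 (appB tabs t80 0xfffff) 5 (inv 5)) 0 20000 = true := by decide +kernel
theorem c11 : allRange (chkBase 31671 20 (appB tabs t80 0xfffff) 5 (inv 5)) 20000 11671 = true := by decide +kernel
theorem c12 : allRange (chkBase 31671 20 (appB tabs t80 0xfffff) 6 (inv 6)) 0 20000 = true := by decide +kernel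
theorem c13 : allRange (chkBase 31671 20 (appB tabs t80 0xfffff) 6 (inv 6)) 20000 11671 = true := by decide +kernel
theorem c14 : allRange (chkBase 31671 20 (appB tabs t80 0xfffff) 7 (inv 7)) 0 20000 = true := by decide +kernel
theorem c15 : allRange (chkBase 31671 20 (appB tabs t80 0xfffff) 7 (inv 7)) 20000 11671 = true := by decide +kernel
theorem c16 : allRange (chkBase 31671 20 (appB tabs t80 0xfffff) 8 (inv 8)) 0 20000 = true := by decide +kernel
theorem c17 : allRange (chkBase 31671 20 (appB tabs t80 0xfffff) 8 (inv 8)) 20000 11671 = true := by decide +kernel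
theorem c18 : allRange (chkBase 31671 20 (appB tabs t80 0xfffff) 9 (inv 9)) 0 20000 = true := by decide +kernel
theorem c19 : allRange (chkBase 31671 20 (appB tabs t80 0xfffff) 9 (inv 9)) 20000 11671 = true := by decide +kernel
theorem c20 : chkDef 20 (appB tabs t80 0xfffff) 10 (slp 10) 0 20000 = true := by decide +kernel
theorem c21 : chkDef 20 (appB tabs t80 0xfffff) 10 (slp 10) 20000 11671 = true := by decide +kernel
theorem c22 : chkDef 20 (appB tabs t80 0xfffff) 11 (slp 11) 0 20000 = true := by decide +kernel
theorem c23 : chkDef 20 (appB tabs t80 0xfffff) 11 (slp 11) 20000 11671 = true := by decide +kernel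
theorem c24 : chkDef 20 (appB tabs t80 0xfffff) 12 (slp 12) 0 20000 = true := by decide +kernel
theorem c25 : chkDef 20 (appB tabs t80 0xfffff) 12 (slp 12) 20000 11671 = true := by decide +kernel
theorem c26 : chkDef 20 (appB tabs t80 0xfffff) 13 (slp 13) 0 20000 = true := by decide +kernel
theorem c27 : chkDef 20 (appB tabs t80 0xfffff) 13 (slp 13) 20000 11671 = true := by decide +kernel
theorem c28 : chkDef 20 (appB tabs t80 0xfffff) 14 (slp 14) 0 20000 = true := by decide +kernel
theorem c29 : chkDef 20 (appB tabs t80 0xfffff) 14 (slp 14) 20000 11671 = true := by decide +kernel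
theorem c30 : chkDef 20 (appB tabs t80 0xfffff) 15 (slp 15) 0 20000 = true := by decide +kernel
theorem c31 : chkDef 20 (appB tabs t80 0xfffff) 15 (slp 15) 20000 11671 = true := by decide +kernel
theorem c32 : chkDef 20 (appB tabs t80 0xfffff) 16 (slp 16) 0 20000 = true := by decide +kernel
theorem c33 : chkDef 20 (appB tabs t80 0xfffff) 16 (slp 16) 20000 11671 = true := by decide +kernel
theorem c34 : chkDef 20 (appB tabs t80 0xfffff) 17 (slp 17) 0 20000 = true := by decide +kernel
theorem c35 : chkDef 20 (appB tabs t80 0xfffff) 17 (slp 17) 20000 11671 = true := by decide +kernel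
theorem c36 : chkDef 20 (appB tabs t80 0xfffff) 18 (slp 18) 0 20000 = true := by decide +kernel
theorem c37 : chkDef 20 (appB tabs t80 0xfffff) 18 (slp 18) 20000 11671 = true := by decide +kernel
theorem c38 : chkDef 20 (appB tabs t80 0xfffff) 19 (slp 19) 0 18292 = true := by decide +kernel
theorem c39 : chkDef 20 (appB tabs t80 0xfffff) 19 (slp 19) 18292 13379 = true := by decide +kernel
theorem c40 : chkDef 20 (appB tabs t80 0xfffff) 20 (slp 20) 0 20000 = true := by decide +kernel
theorem c41 : chkDef 20 (appB tabs t80 0xfffff) 20 (slp 20) 20000 11671 = true := by decide +kernel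
theorem c42 : chkDef 20 (appB tabs t80 0xfffff) 21 (slp 21) 0 20000 = true := by decide +kernel
theorem c43 : chkDef 20 (appB tabs t80 0xfffff) 21 (slp 21) 20000 11671 = true := by decide +kernel
theorem c44 : chkDef 20 (appB tabs t80 0xfffff) 22 (slp 22) 0 20000 = true := by decide +kernel
theorem c45 : chkDef 20 (appB tabs t80 0xfffff) 22 (slp 22) 20000 11671 = true := by decide +kernel
theorem c46 : chkDef 20 (appB tabs t80 0xfffff) 23 (slp 23) 0 20000 = true := by decide +kernel
theorem c47 : chkDef 20 (appB tabs t80 0xfffff) 23 (slp 23) 20000 11671 = true := by decide +kernel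
theorem c48 : chkDef 20 (appB tabs t80 0xfffff) 24 (slp 24) 0 20000 = true := by decide +kernel
theorem c49 : chkDef 20 (appB tabs t80 0xfffff) 24 (slp 24) 20000 11671 = true := by decide +kernel
theorem c50 : chkDef 20 (appB tabs t80 0xfffff) 25 (slp 25) 0 20000 = true := by decide +kernel
theorem c51 : chkDef 20 (appB tabs t80 0xfffff) 25 (slp 25) 20000 11671 = true := by decide +kernel
theorem c52 : chkDef 20 (appB tabs t80 0xfffff) 26 (slp 26) 0 20000 = true := by decide +kernel
theorem c53 : chkDef 20 (appB tabs t80 0xfffff) 26 (slp 26) 20000 11671 = true := by decide +kernel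
theorem c54 : chkDef 20 (appB tabs t80 0xfffff) 27 (slp 27) 0 20000 = true := by decide +kernel
theorem c55 : chkDef 20 (appB tabs t80 0xfffff) 27 (slp 27) 20000 11671 = true := by decide +kernel
theorem c56 : chkDef 20 (appB tabs t80 0xfffff) 28 (slp 28) 0 20000 = true := by decide +kernel
theorem c57 : chkDef 20 (appB tabs t80 0xfffff) 28 (slp 28) 20000 11671 = true := by decide +kernel
theorem c58 : chkDef 20 (appB tabs t80 0xfffff) 29 (slp 29) 0 20000 = true := by decide +kernel
theorem c59 : chkDef 20 (appB tabs t80 0xfffff) 29 (slp 29) 20000 11671 = true := by decide +kernel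
theorem c60 : chkDef 20 (appB tabs t80 0xfffff) 30 (slp 30) 0 20000 = true := by decide +kernel
theorem c61 : chkDef 20 (appB tabs t80 0xfffff) 30 (slp 30) 20000 11671 = true := by decide +kernel
theorem c62 : chkDef 20 (appB tabs t80 0xfffff) 31 (slp 31) 0 20000 = true := by decide +kernel
theorem c63 : chkDef 20 (appB tabs t80 0xfffff) 31 (slp 31) 20000 11671 = true := by decide +kernel
theorem c64 : chkDef 20 (appB tabs t80 0xfffff) 32 (slp 32) 0 20000 = true := by decide +kernel
theorem c65 : chkDef 20 (appB tabs t80 0xfffff) 32 (slp 32) 20000 11671 = true := by decide +kernel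
theorem c66 : chkDef 20 (appB tabs t80 0xfffff) 33 (slp 33) 0 20000 = true := by decide +kernel
theorem c67 : chkDef 20 (appB tabs t80 0xfffff) 33 (slp 33) 20000 11671 = true := by decide +kernel
theorem c68 : chkDef 20 (appB tabs t80 0xfffff) 34 (slp 34) 0 20000 = true := by decide +kernel
theorem c69 : chkDef 20 (appB tabs t80 0xfffff) 34 (slp 34) 20000 11671 = true := by decide +kernel
theorem c70 : chkDef 20 (appB tabs t80 0xfffff) 35 (slp 35) 0 20000 = true := by decide +kernel
theorem c71 : chkDef 20 (appB tabs t80 0xfffff) 35 (slp 35) 20000 11671 = true := by decide +kernel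
theorem c72 : chkDef 20 (appB tabs t80 0xfffff) 36 (slp 36) 0 20000 = true := by decide +kernel
theorem c73 : chkDef 20 (appB tabs t80 0xfffff) 36 (slp 36) 20000 11671 = true := by decide +kernel
theorem c74 : chkDef 20 (appB tabs t80 0xfffff) 37 (slp 37) 0 20000 = true := by decide +kernel
theorem c75 : chkDef 20 (appB tabs t80 0xfffff) 37 (slp 37) 20000 11671 = true := by decide +kernel
theorem c76 : chkDef 20 (appB tabs t80 0xfffff) 38 (slp 38) 0 20000 = true := by decide +kernel
theorem c77 : chkDef 20 (appB tabs t80 0xfffff) 38 (slp 38) 20000 11671 = true := by decide +kernel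
theorem c78 : chkDef 20 (appB tabs t80 0xfffff) 39 (slp 39) 0 20000 = true := by decide +kernel
theorem c79 : chkDef 20 (appB tabs t80 0xfffff) 39 (slp 39) 20000 11671 = true := by decide +kernel
theorem c80 : chkDef 20 (appB tabs t80 0xfffff) 40 (slp 40) 0 20000 = true := by decide +kernel
theorem c81 : chkDef 20 (appB tabs t80 0xfffff) 40 (slp 40) 20000 11671 = true := by decide +kernel
theorem c82 : chkDef 20 (appB tabs t80 0xfffff) 41 (slp 41) 0 20000 = true := by decide +kernel
theorem c83 : chkDef 20 (appB tabs t80 0xfffff) 41 (slp 41) 20000 11671 = true := by decide +kernel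
theorem c84 : chkDef 20 (appB tabs t80 0xfffff) 42 (slp 42) 0 20000 = true := by decide +kernel
theorem c85 : chkDef 20 (appB tabs t80 0xfffff) 42 (slp 42) 20000 11671 = true := by decide +kernel
theorem c86 : chkDef 20 (appB tabs t80 0xfffff) 43 (slp 43) 0 20000 = true := by decide +kernel
theorem c87 : chkDef 20 (appB tabs t80 0xfffff) 43 (slp 43) 20000 11671 = true := by decide +kernel
theorem c88 : chkDef 20 (appB tabs t80 0xfffff) 44 (slp 44) 0 20000 = true := by decide +kernel
theorem c89 : chkDef 20 (appB tabs t80 0xfffff) 44 (slp 44) 20000 11671 = true := by decide +kernel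
theorem c90 : chkDef 20 (appB tabs t80 0xfffff) 45 (slp 45) 0 20000 = true := by decide +kernel
theorem c91 : chkDef 20 (appB tabs t80 0xfffff) 45 (slp 45) 20000 11671 = true := by decide +kernel
theorem c92 : chkDef 20 (appB tabs t80 0xfffff) 46 (slp 46) 0 20000 = true := by decide +kernel
theorem c93 : chkDef 20 (appB tabs t80 0xfffff) 46 (slp 46) 20000 11671 = true := by decide +kernel
theorem c94 : chkDef 20 (appB tabs t80 0xfffff) 47 (slp 47) 0 20000 = true := by decide +kernel
theorem c95 : chkDef 20 (appB tabs t80 0xfffff) 47 (slp 47) 20000 11671 = true := by decide +kernel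
theorem c96 : chkDef 20 (appB tabs t80 0xfffff) 48 (slp 48) 0 20000 = true := by decide +kernel
theorem c97 : chkDef 20 (appB tabs t80 0xfffff) 48 (slp 48) 20000 11671 = true := by decide +kernel
theorem c98 : chkDef 20 (appB tabs t80 0xfffff) 49 (slp 49) 0 20000 = true := by decide +kernel
theorem c99 : chkDef 20 (appB tabs t80 0xfffff) 49 (slp 49) 20000 11671 = true := by decide +kernel
theorem c100 : chkDef 20 (appB tabs t80 0xfffff) 50 (slp 50) 0 20000 = true := by decide +kernel
theorem c101 : chkDef 20 (appB tabs t80 0xfffff) 50 (slp 50) 20000 11671 = true := by decide +kernel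
theorem c102 : chkDef 20 (appB tabs t80 0xfffff) 51 (slp 51) 0 20000 = true := by decide +kernel
theorem c103 : chkDef 20 (appB tabs t80 0xfffff) 51 (slp 51) 20000 11671 = true := by decide +kernel
theorem c104 : chkDef 20 (appB tabs t80 0xfffff) 52 (slp 52) 0 20000 = true := by decide +kernel
theorem c105 : chkDef 20 (appB tabs t80 0xfffff) 52 (slp 52) 20000 11671 = true := by decide +kernel
theorem c106 : chkDef 20 (appB tabs t80 0xfffff) 53 (slp 53) 0 20000 = true := by decide +kernel
theorem c107 : chkDef 20 (appB tabs t80 0xfffff) 53 (slp 53) 20000 11671 = true := by decide +kernel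
theorem c108 : chkDef 20 (appB tabs t80 0xfffff) 54 (slp 54) 0 20000 = true := by decide +kernel

end Cfsg.Agent.CG.Fi23
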