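import Cfsg.Agent.Lib.Grp.Fi23.D0
import Cfsg.Agent.Lib.Grp.Fi23.D1

set_option autoImplicit false
set_option maxRecDepth 100000
set_option Elab.async false
set_option linter.unusedSectionVars false

namespace Cfsg.Agent.CG.Fi23

noncomputable def t0 : Tr ℕ := (.node (.node (.node (.node (.leaf t0_0) (.leaf t0_8)) (.leaf t0_4)) (.node (.leaf t0_2) (.leaf t0_6))) (.node (.node (.node (.leaf t0_1) (.leaf t0_9)) (.leaf t0_5)) (.node (.leaf t0_3) (.leaf t0_7))))
noncomputable def t1 : Tr ℕ := (.node (.node (.node (.node (.leaf t1_0) (.leaf t1_8)) (.leaf t1_4)) (.node (.leaf t1_2) (.leaf t1_6))) (.node (.node (.node (.leaf t1_1) (.leaf t1_9)) (.leaf t1_5)) (.node (.leaf t1_3) (.leaf t1_7))))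
noncomputable def t2 : Tr ℕ := (.node (.node (.node (.node (.leaf t2_0) (.leaf t2_8)) (.leaf t2_4)) (.node (.leaf t2_2) (.leaf t2_6))) (.node (.node (.node (.leaf t2_1) (.leaf t2_9)) (.leaf t2_5)) (.node (.leaf t2_3) (.leaf t2_7))))
noncomputable def t3 : Tr ℕ := (.node (.node (.node (.node (.leaf t3_0) (.leaf t3_8)) (.leaf t3_4)) (.node (.leaf t3_2) (.leaf t3_6))) (.node (.node (.node (.leaf t3_1) (.leaf t3_9)) (.leaf t3_5)) (.node (.leaf t3_3) (.leaf t3_7))))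
noncomputable def t4 : Tr ℕ := (.node (.node (.node (.node (.leaf t4_0) (.leaf t4_8)) (.leaf t4_4)) (.node (.leaf t4_2) (.leaf t4_6))) (.node (.node (.node (.leaf t4_1) (.leaf t4_9)) (.leaf t4_5)) (.node (.leaf t4_3) (.leaf t4_7))))
noncomputable def t5 : Tr ℕ := (.node (.node (.node (.node (.leaf t5_0) (.leaf t5_8)) (.leaf t5_4)) (.node (.leaf t5_2) (.leaf t5_6))) (.node (.node (.node (.leaf t5_1) (.leaf t5_9)) (.leaf t5_5)) (.node (.leaf t5_3) (.leaf t5_7))))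
noncomputable def t6 : Tr ℕ := (.node (.node (.node (.node (.leaf t6_0) (.leaf t6_8)) (.leaf t6_4)) (.node (.leaf t6_2) (.leaf t6_6))) (.node (.node (.node (.leaf t6_1) (.leaf t6_9)) (.leaf t6_5)) (.node (.leaf t6_3) (.leaf t6_7))))
noncomputable def t7 : Tr ℕ := (.node (.node (.node (.node (.leaf t7_0) (.leaf t7_8)) (.leaf t7_4)) (.node (.leaf t7_2) (.leaf t7_6))) (.node (.node (.node (.leaf t7_1) (.leaf t7_9)) (.leaf t7_5)) (.node (.leaf t7_3) (.leaf t7_7))))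
noncomputable def t8 : Tr ℕ := (.node (.node (.node (.node (.leaf t8_0) (.leaf t8_8)) (.leaf t8_4)) (.node (.leaf t8_2) (.leaf t8_6))) (.node (.node (.node (.leaf t8_1) (.leaf t8_9)) (.leaf t8_5)) (.node (.leaf t8_3) (.leaf t8_7))))
noncomputable def t9 : Tr ℕ := (.node (.node (.node (.node (.leaf t9_0) (.leaf t9_8)) (.leaf t9_4)) (.node (.leaf t9_2) (.leaf t9_6))) (.node (.node (.node (.leaf t9_1) (.leaf t9_9)) (.leaf t9_5)) (.node (.leaf t9_3) (.leaf t9_7))))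
noncomputable def t10 : Tr ℕ := (.node (.node (.node (.node (.leaf t10_0) (.leaf t10_8)) (.leaf t10_4)) (.node (.leaf t10_2) (.leaf t10_6))) (.node (.node (.node (.leaf t10_1) (.leaf t10_9)) (.leaf t10_5)) (.node (.leaf t10_3) (.leaf t10_7))))
noncomputable def t11 : Tr ℕ := (.node (.node (.node (.node (.leaf t11_0) (.leaf t11_8)) (.leaf t11_4)) (.node (.leaf t11_2) (.leaf t11_6))) (.node (.node (.node (.leaf t11_1) (.leaf t11_9)) (.leaf t11_5)) (.node (.leaf t11_3) (.leaf t11_7))))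
noncomputable def t12 : Tr ℕ := (.node (.node (.node (.node (.leaf t12_0) (.leaf t12_8)) (.leaf t12_4)) (.node (.leaf t12_2) (.leaf t12_6))) (.node (.node (.node (.leaf t12_1) (.leaf t12_9)) (.leaf t12_5)) (.node (.leaf t12_3) (.leaf t12_7))))
noncomputable def t13 : Tr ℕ := (.node (.node (.node (.node (.leaf t13_0) (.leaf t13_8)) (.leaf t13_4)) (.node (.leaf t13_2) (.leaf t13_6))) (.node (.node (.node (.leaf t13_1) (.leaf t13_9)) (.leaf t13_5)) (.node (.leaf t13_3) (.leaf t13_7))))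
noncomputable def t14 : Tr ℕ := (.node (.node (.node (.node (.leaf t14_0) (.leaf t14_8)) (.leaf t14_4)) (.node (.leaf t14_2) (.leaf t14_6))) (.node (.node (.node (.leaf t14_1) (.leaf t14_9)) (.leaf t14_5)) (.node (.leaf t14_3) (.leaf t14_7))))
noncomputable def t15 : Tr ℕ := (.node (.node (.node (.node (.leaf t15_0) (.leaf t15_8)) (.leaf t15_4)) (.node (.leaf t15_2) (.leaf t15_6))) (.node (.node (.node (.leaf t15_1) (.leaf t15_9)) (.leaf t15_5)) (.node (.leaf t15_3) (.leaf t15_7))))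
noncomputable def t16 : Tr ℕ := (.node (.node (.node (.node (.leaf t16_0) (.leaf t16_8)) (.leaf t16_4)) (.node (.leaf t16_2) (.leaf t16_6))) (.node (.node (.node (.leaf t16_1) (.leaf t16_9)) (.leaf t16_5)) (.node (.leaf t16_3) (.leaf t16_7))))
noncomputable def t17 : Tr ℕ := (.node (.node (.node (.node (.leaf t17_0) (.leaf t17_8)) (.leaf t17_4)) (.node (.leaf t17_2) (.leaf t17_6))) (.node (.node (.node (.leaf t17_1) (.leaf t17_9)) (.leaf t17_5)) (.node (.leaf t17_3) (.leaf t17_7))))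
noncomputable def t18 : Tr ℕ := (.node (.node (.node (.node (.leaf t18_0) (.leaf t18_8)) (.leaf t18_4)) (.node (.leaf t18_2) (.leaf t18_6))) (.node (.node (.node (.leaf t18_1) (.leaf t18_9)) (.leaf t18_5)) (.node (.leaf t18_3) (.leaf t18_7))))
noncomputable def t19 : Tr ℕ := (.node (.node (.node (.node (.leaf t19_0) (.leaf t19_8)) (.leaf t19_4)) (.node (.leaf t19_2) (.leaf t19_6))) (.node (.node (.node (.leaf t19_1) (.leaf t19_9)) (.leaf t19_5)) (.node (.leaf t19_3) (.leaf t19_7))))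
noncomputable def t20 : Tr ℕ := (.node (.node (.node (.node (.leaf t20_0) (.leaf t20_8)) (.leaf t20_4)) (.node (.leaf t20_2) (.leaf t20_6))) (.node (.node (.node (.leaf t20_1) (.leaf t20_9)) (.leaf t20_5)) (.node (.leaf t20_3) (.leaf t20_7))))
noncomputable def t21 : Tr ℕ := (.node (.node (.node (.node (.leaf t21_0) (.leaf t21_8)) (.leaf t21_4)) (.node (.leaf t21_2) (.leaf t21_6))) (.node (.node (.node (.leaf t21_1) (.leaf t21_9)) (.leaf t21_5)) (.node (.leaf t21_3) (.leaf t21_7))))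
noncomputable def t22 : Tr ℕ := (.node (.node (.node (.node (.leaf t22_0) (.leaf t22_8)) (.leaf t22_4)) (.node (.leaf t22_2) (.leaf t22_6))) (.node (.node (.node (.leaf t22_1) (.leaf t22_9)) (.leaf t22_5)) (.node (.leaf t22_3) (.leaf t22_7))))
noncomputable def t23 : Tr ℕ := (.node (.node (.node (.node (.leaf t23_0) (.leaf t23_8)) (.leaf t23_4)) (.node (.leaf t23_2) (.leaf t23_6))) (.node (.node (.node (.leaf t23_1) (.leaf t23_9)) (.leaf t23_5)) (.node (.leaf t23_3) (.leaf t23_7))))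
noncomputable def t24 : Tr ℕ := (.node (.node (.node (.node (.leaf t24_0) (.leaf t24_8)) (.leaf t24_4)) (.node (.leaf t24_2) (.leaf t24_6))) (.node (.node (.node (.leaf t24_1) (.leaf t24_9)) (.leaf t24_5)) (.node (.leaf t24_3) (.leaf t24_7))))
noncomputable def t25 : Tr ℕ := (.node (.node (.node (.node (.leaf t25_0) (.leaf t25_8)) (.leaf t25_4)) (.node (.leaf t25_2) (.leaf t25_6))) (.node (.node (.node (.leaf t25_1) (.leaf t25_9)) (.leaf t25_5)) (.node (.leaf t25_3) (.leaf t25_7))))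
noncomputable def t26 : Tr ℕ := (.node (.node (.node (.node (.leaf t26_0) (.leaf t26_8)) (.leaf t26_4)) (.node (.leaf t26_2) (.leaf t26_6))) (.node (.node (.node (.leaf t26_1) (.leaf t26_9)) (.leaf t26_5)) (.node (.leaf t26_3) (.leaf t26_7))))
noncomputable def t27 : Tr ℕ := (.node (.node (.node (.node (.leaf t27_0) (.leaf t27_8)) (.leaf t27_4)) (.node (.leaf t27_2) (.leaf t27_6))) (.node (.node (.node (.leaf t27_1) (.leaf t27_9)) (.leaf t27_5)) (.node (.leaf t27_3) (.leaf t27_7))))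
noncomputable def t28 : Tr ℕ := (.node (.node (.node (.node (.leaf t28_0) (.leaf t28_8)) (.leaf t28_4)) (.node (.leaf t28_2) (.leaf t28_6))) (.node (.node (.node (.leaf t28_1) (.leaf t28_9)) (.leaf t28_5)) (.node (.leaf t28_3) (.leaf t28_7))))
noncomputable def t29 : Tr ℕ := (.node (.node (.node (.node (.leaf t29_0) (.leaf t29_8)) (.leaf t29_4)) (.node (.leaf t29_2) (.leaf t29_6))) (.node (.node (.node (.leaf t29_1) (.leaf t29_9)) (.leaf t29_5)) (.node (.leaf t29_3) (.leaf t29_7))))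
noncomputable def t30 : Tr ℕ := (.node (.node (.node (.node (.leaf t30_0) (.leaf t30_8)) (.leaf t30_4)) (.node (.leaf t30_2) (.leaf t30_6))) (.node (.node (.node (.leaf t30_1) (.leaf t30_9)) (.leaf t30_5)) (.node (.leaf t30_3) (.leaf t30_7))))
noncomputable def t31 : Tr ℕ := (.node (.node (.node (.node (.leaf t31_0) (.leaf t31_8)) (.leaf t31_4)) (.node (.leaf t31_2) (.leaf t31_6))) (.node (.node (.node (.leaf t31_1) (.leaf t31_9)) (.leaf t31_5)) (.node (.leaf t31_3) (.leaf t31_7))))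
noncomputable def t32 : Tr ℕ := (.node (.node (.node (.node (.leaf t32_0) (.leaf t32_8)) (.leaf t32_4)) (.node (.leaf t32_2) (.leaf t32_6))) (.node (.node (.node (.leaf t32_1) (.leaf t32_9)) (.leaf t32_5)) (.node (.leaf t32_3) (.leaf t32_7))))
noncomputable def t33 : Tr ℕ := (.node (.node (.node (.node (.leaf t33_0) (.leaf t33_8)) (.leaf t33_4)) (.node (.leaf t33_2) (.leaf t33_6))) (.node (.node (.node (.leaf t33_1) (.leaf t33_9)) (.leaf t33_5)) (.node (.leaf t33_3) (.leaf t33_7))))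
noncomputable def t34 : Tr ℕ := (.node (.node (.node (.node (.leaf t34_0) (.leaf t34_8)) (.leaf t34_4)) (.node (.leaf t34_2) (.leaf t34_6))) (.node (.node (.node (.leaf t34_1) (.leaf t34_9)) (.leaf t34_5)) (.node (.leaf t34_3) (.leaf t34_7))))
noncomputable def t35 : Tr ℕ := (.node (.node (.node (.node (.leaf t35_0) (.leaf t35_8)) (.leaf t35_4)) (.node (.leaf t35_2) (.leaf t35_6))) (.node (.node (.node (.leaf t35_1) (.leaf t35_9)) (.leaf t35_5)) (.node (.leaf t35_3) (.leaf t35_7))))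
noncomputable def t36 : Tr ℕ := (.node (.node (.node (.node (.leaf t36_0) (.leaf t36_8)) (.leaf t36_4)) (.node (.leaf t36_2) (.leaf t36_6))) (.node (.node (.node (.leaf t36_1) (.leaf t36_9)) (.leaf t36_5)) (.node (.leaf t36_3) (.leaf t36_7))))
noncomputable def t37 : Tr ℕ := (.node (.node (.node (.node (.leaf t37_0) (.leaf t37_8)) (.leaf t37_4)) (.node (.leaf t37_2) (.leaf t37_6))) (.node (.node (.node (.leaf t37_1) (.leaf t37_9)) (.leaf t37_5)) (.node (.leaf t37_3) (.leaf t37_7))))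
noncomputable def t38 : Tr ℕ := (.node (.node (.node (.node (.leaf t38_0) (.leaf t38_8)) (.leaf t38_4)) (.node (.leaf t38_2) (.leaf t38_6))) (.node (.node (.node (.leaf t38_1) (.leaf t38_9)) (.leaf t38_5)) (.node (.leaf t38_3) (.leaf t38_7))))
noncomputable def t39 : Tr ℕ := (.node (.node (.node (.node (.leaf t39_0) (.leaf t39_8)) (.leaf t39_4)) (.node (.leaf t39_2) (.leaf t39_6))) (.node (.node (.node (.leaf t39_1) (.leaf t39_9)) (.leaf t39_5)) (.node (.leaf t39_3) (.leaf t39_7))))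
noncomputable def t40 : Tr ℕ := (.node (.node (.node (.node (.leaf t40_0) (.leaf t40_8)) (.leaf t40_4)) (.node (.leaf t40_2) (.leaf t40_6))) (.node (.node (.node (.leaf t40_1) (.leaf t40_9)) (.leaf t40_5)) (.node (.leaf t40_3) (.leaf t40_7))))
noncomputable def t41 : Tr ℕ := (.node (.node (.node (.node (.leaf t41_0) (.leaf t41_8)) (.leaf t41_4)) (.node (.leaf t41_2) (.leaf t41_6))) (.node (.node (.node (.leaf t41_1) (.leaf t41_9)) (.leaf t41_5)) (.node (.leaf t41_3) (.leaf t41_7))))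
noncomputable def t42 : Tr ℕ := (.node (.node (.node (.node (.leaf t42_0) (.leaf t42_8)) (.leaf t42_4)) (.node (.leaf t42_2) (.leaf t42_6))) (.node (.node (.node (.leaf t42_1) (.leaf t42_9)) (.leaf t42_5)) (.node (.leaf t42_3) (.leaf t42_7))))
noncomputable def t43 : Tr ℕ := (.node (.node (.node (.node (.leaf t43_0) (.leaf t43_8)) (.leaf t43_4)) (.node (.leaf t43_2) (.leaf t43_6))) (.node (.node (.node (.leaf t43_1) (.leaf t43_9)) (.leaf t43_5)) (.node (.leaf t43_3) (.leaf t43_7))))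
noncomputable def t44 : Tr ℕ := (.node (.node (.node (.node (.leaf t44_0) (.leaf t44_8)) (.leaf t44_4)) (.node (.leaf t44_2) (.leaf t44_6))) (.node (.node (.node (.leaf t44_1) (.leaf t44_9)) (.leaf t44_5)) (.node (.leaf t44_3) (.leaf t44_7))))
noncomputable def t45 : Tr ℕ := (.node (.node (.node (.node (.leaf t45_0) (.leaf t45_8)) (.leaf t45_4)) (.node (.leaf t45_2) (.leaf t45_6))) (.node (.node (.node (.leaf t45_1) (.leaf t45_9)) (.leaf t45_5)) (.node (.leaf t45_3) (.leaf t45_7))))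
noncomputable def t46 : Tr ℕ := (.node (.node (.node (.node (.leaf t46_0) (.leaf t46_8)) (.leaf t46_4)) (.node (.leaf t46_2) (.leaf t46_6))) (.node (.node (.node (.leaf t46_1) (.leaf t46_9)) (.leaf t46_5)) (.node (.leaf t46_3) (.leaf t46_7))))
noncomputable def t47 : Tr ℕ := (.node (.node (.node (.node (.leaf t47_0) (.leaf t47_8)) (.leaf t47_4)) (.node (.leaf t47_2) (.leaf t47_6))) (.node (.node (.node (.leaf t47_1) (.leaf t47_9)) (.leaf t47_5)) (.node (.leaf t47_3) (.leaf t47_7))))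
noncomputable def t48 : Tr ℕ := (.node (.node (.node (.node (.leaf t48_0) (.leaf t48_8)) (.leaf t48_4)) (.node (.leaf t48_2) (.leaf t48_6))) (.node (.node (.node (.leaf t48_1) (.leaf t48_9)) (.leaf t48_5)) (.node (.leaf t48_3) (.leaf t48_7))))
noncomputable def t49 : Tr ℕ := (.node (.node (.node (.node (.leaf t49_0) (.leaf t49_8)) (.leaf t49_4)) (.node (.leaf t49_2) (.leaf t49_6))) (.node (.node (.node (.leaf t49_1) (.leaf t49_9)) (.leaf t49_5)) (.node (.leaf t49_3) (.leaf t49_7))))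
noncomputable def t50 : Tr ℕ := (.node (.node (.node (.node (.leaf t50_0) (.leaf t50_8)) (.leaf t50_4)) (.node (.leaf t50_2) (.leaf t50_6))) (.node (.node (.node (.leaf t50_1) (.leaf t50_9)) (.leaf t50_5)) (.node (.leaf t50_3) (.leaf t50_7))))
noncomputable def t51 : Tr ℕ := (.node (.node (.node (.node (.leaf t51_0) (.leaf t51_8)) (.leaf t51_4)) (.node (.leaf t51_2) (.leaf t51_6))) (.node (.node (.node (.leaf t51_1) (.leaf t51_9)) (.leaf t51_5)) (.node (.leaf t51_3) (.leaf t51_7))))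
noncomputable def t52 : Tr ℕ := (.node (.node (.node (.node (.leaf t52_0) (.leaf t52_8)) (.leaf t52_4)) (.node (.leaf t52_2) (.leaf t52_6))) (.node (.node (.node (.leaf t52_1) (.leaf t52_9)) (.leaf t52_5)) (.node (.leaf t52_3) (.leaf t52_7))))
noncomputable def t53 : Tr ℕ := (.node (.node (.node (.node (.leaf t53_0) (.leaf t53_8)) (.leaf t53_4)) (.node (.leaf t53_2) (.leaf t53_6))) (.node (.node (.node (.leaf t53_1) (.leaf t53_9)) (.leaf t53_5)) (.node (.leaf t53_3) (.leaf t53_7))))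
noncomputable def t54 : Tr ℕ := (.node (.node (.node (.node (.leaf t54_0) (.leaf t54_8)) (.leaf t54_4)) (.node (.leaf t54_2) (.leaf t54_6))) (.node (.node (.node (.leaf t54_1) (.leaf t54_9)) (.leaf t54_5)) (.node (.leaf t54_3) (.leaf t54_7))))
noncomputable def t55 : Tr ℕ := (.node (.node (.node (.node (.leaf t55_0) (.leaf t55_8)) (.leaf t55_4)) (.node (.leaf t55_2) (.leaf t55_6))) (.node (.node (.node (.leaf t55_1) (.leaf t55_9)) (.leaf t55_5)) (.node (.leaf t55_3) (.leaf t55_7))))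
noncomputable def t56 : Tr ℕ := (.node (.node (.node (.node (.leaf t56_0) (.leaf t56_8)) (.leaf t56_4)) (.node (.leaf t56_2) (.leaf t56_6))) (.node (.node (.node (.leaf t56_1) (.leaf t56_9)) (.leaf t56_5)) (.node (.leaf t56_3) (.leaf t56_7))))
noncomputable def t57 : Tr ℕ := (.node (.node (.node (.node (.leaf t57_0) (.leaf t57_8)) (.leaf t57_4)) (.node (.leaf t57_2) (.leaf t57_6))) (.node (.node (.node (.leaf t57_1) (.leaf t57_9)) (.leaf t57_5)) (.node (.leaf t57_3) (.leaf t57_7))))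
noncomputable def t58 : Tr ℕ := (.node (.node (.node (.node (.leaf t58_0) (.leaf t58_8)) (.leaf t58_4)) (.node (.leaf t58_2) (.leaf t58_6))) (.node (.node (.node (.leaf t58_1) (.leaf t58_9)) (.leaf t58_5)) (.node (.leaf t58_3) (.leaf t58_7))))
noncomputable def t59 : Tr ℕ := (.node (.node (.node (.node (.leaf t59_0) (.leaf t59_8)) (.leaf t59_4)) (.node (.leaf t59_2) (.leaf t59_6))) (.node (.node (.node (.leaf t59_1) (.leaf t59_9)) (.leaf t59_5)) (.node (.leaf t59_3) (.leaf t59_7))))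
noncomputable def t60 : Tr ℕ := (.node (.node (.node (.node (.leaf t60_0) (.leaf t60_8)) (.leaf t60_4)) (.node (.leaf t60_2) (.leaf t60_6))) (.node (.node (.node (.leaf t60_1) (.leaf t60_9)) (.leaf t60_5)) (.node (.leaf t60_3) (.leaf t60_7))))
noncomputable def t61 : Tr ℕ := (.node (.node (.node (.node (.leaf t61_0) (.leaf t61_8)) (.leaf t61_4)) (.node (.leaf t61_2) (.leaf t61_6))) (.node (.node (.node (.leaf t61_1) (.leaf t61_9)) (.leaf t61_5)) (.node (.leaf t61_3) (.leaf t61_7))))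
noncomputable def t62 : Tr ℕ := (.node (.node (.node (.node (.leaf t62_0) (.leaf t62_8)) (.leaf t62_4)) (.node (.leaf t62_2) (.leaf t62_6))) (.node (.node (.node (.leaf t62_1) (.leaf t62_9)) (.leaf t62_5)) (.node (.leaf t62_3) (.leaf t62_7))))
noncomputable def t63 : Tr ℕ := (.node (.node (.node (.node (.leaf t63_0) (.leaf t63_8)) (.leaf t63_4)) (.node (.leaf t63_2) (.leaf t63_6))) (.node (.node (.node (.leaf t63_1) (.leaf t63_9)) (.leaf t63_5)) (.node (.leaf t63_3) (.leaf t63_7))))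
noncomputable def t64 : Tr ℕ := (.node (.node (.node (.node (.leaf t64_0) (.leaf t64_8)) (.leaf t64_4)) (.node (.leaf t64_2) (.leaf t64_6))) (.node (.node (.node (.leaf t64_1) (.leaf t64_9)) (.leaf t64_5)) (.node (.leaf t64_3) (.leaf t64_7))))
noncomputable def t65 : Tr ℕ := (.node (.node (.node (.node (.leaf t65_0) (.leaf t65_8)) (.leaf t65_4)) (.node (.leaf t65_2) (.leaf t65_6))) (.node (.node (.node (.leaf t65_1) (.leaf t65_9)) (.leaf t65_5)) (.node (.leaf t65_3) (.leaf t65_7))))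
noncomputable def t66 : Tr ℕ := (.node (.node (.node (.node (.leaf t66_0) (.leaf t66_8)) (.leaf t66_4)) (.node (.leaf t66_2) (.leaf t66_6))) (.node (.node (.node (.leaf t66_1) (.leaf t66_9)) (.leaf t66_5)) (.node (.leaf t66_3) (.leaf t66_7))))
noncomputable def t67 : Tr ℕ := (.node (.node (.node (.node (.leaf t67_0) (.leaf t67_8)) (.leaf t67_4)) (.node (.leaf t67_2) (.leaf t67_6))) (.node (.node (.node (.leaf t67_1) (.leaf t67_9)) (.leaf t67_5)) (.node (.leaf t67_3) (.leaf t67_7))))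
noncomputable def t68 : Tr ℕ := (.node (.node (.node (.node (.leaf t68_0) (.leaf t68_8)) (.leaf t68_4)) (.node (.leaf t68_2) (.leaf t68_6))) (.node (.node (.node (.leaf t68_1) (.leaf t68_9)) (.leaf t68_5)) (.node (.leaf t68_3) (.leaf t68_7))))
noncomputable def t69 : Tr ℕ := (.node (.node (.node (.node (.leaf t69_0) (.leaf t69_8)) (.leaf t69_4)) (.node (.leaf t69_2) (.leaf t69_6))) (.node (.node (.node (.leaf t69_1) (.leaf t69_9)) (.leaf t69_5)) (.node (.leaf t69_3) (.leaf t69_7))))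
noncomputable def t70 : Tr ℕ := (.node (.node (.node (.node (.leaf t70_0) (.leaf t70_8)) (.leaf t70_4)) (.node (.leaf t70_2) (.leaf t70_6))) (.node (.node (.node (.leaf t70_1) (.leaf t70_9)) (.leaf t70_5)) (.node (.leaf t70_3) (.leaf t70_7))))
noncomputable def t71 : Tr ℕ := (.node (.node (.node (.node (.leaf t71_0) (.leaf t71_8)) (.leaf t71_4)) (.node (.leaf t71_2) (.leaf t71_6))) (.node (.node (.node (.leaf t71_1) (.leaf t71_9)) (.leaf t71_5)) (.node (.leaf t71_3) (.leaf t71_7))))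
noncomputable def t72 : Tr ℕ := (.node (.node (.node (.node (.leaf t72_0) (.leaf t72_8)) (.leaf t72_4)) (.node (.leaf t72_2) (.leaf t72_6))) (.node (.node (.node (.leaf t72_1) (.leaf t72_9)) (.leaf t72_5)) (.node (.leaf t72_3) (.leaf t72_7))))
noncomputable def t73 : Tr ℕ := (.node (.node (.node (.node (.leaf t73_0) (.leaf t73_8)) (.leaf t73_4)) (.node (.leaf t73_2) (.leaf t73_6))) (.node (.node (.node (.leaf t73_1) (.leaf t73_9)) (.leaf t73_5)) (.node (.leaf t73_3) (.leaf t73_7))))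
noncomputable def t74 : Tr ℕ := (.node (.node (.node (.node (.leaf t74_0) (.leaf t74_8)) (.leaf t74_4)) (.node (.leaf t74_2) (.leaf t74_6))) (.node (.node (.node (.leaf t74_1) (.leaf t74_9)) (.leaf t74_5)) (.node (.leaf t74_3) (.leaf t74_7))))
noncomputable def t75 : Tr ℕ := (.node (.node (.node (.node (.leaf t75_0) (.leaf t75_8)) (.leaf t75_4)) (.node (.leaf t75_2) (.leaf t75_6))) (.node (.node (.node (.leaf t75_1) (.leaf t75_9)) (.leaf t75_5)) (.node (.leaf t75_3) (.leaf t75_7))))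
noncomputable def t76 : Tr ℕ := (.node (.node (.node (.node (.leaf t76_0) (.leaf t76_8)) (.leaf t76_4)) (.node (.leaf t76_2) (.leaf t76_6))) (.node (.node (.node (.leaf t76_1) (.leaf t76_9)) (.leaf t76_5)) (.node (.leaf t76_3) (.leaf t76_7))))
noncomputable def t77 : Tr ℕ := (.node (.node (.node (.node (.leaf t77_0) (.leaf t77_8)) (.leaf t77_4)) (.node (.leaf t77_2) (.leaf t77_6))) (.node (.node (.node (.leaf t77_1) (.leaf t77_9)) (.leaf t77_5)) (.node (.leaf t77_3) (.leaf t77_7))))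
noncomputable def t78 : Tr ℕ := (.node (.node (.node (.node (.leaf t78_0) (.leaf t78_8)) (.leaf t78_4)) (.node (.leaf t78_2) (.leaf t78_6))) (.node (.node (.node (.leaf t78_1) (.leaf t78_9)) (.leaf t78_5)) (.node (.leaf t78_3) (.leaf t78_7))))
noncomputable def t79 : Tr ℕ := (.node (.node (.node (.node (.leaf t79_0) (.leaf t79_8)) (.leaf t79_4)) (.node (.leaf t79_2) (.leaf t79_6))) (.node (.node (.node (.leaf t79_1) (.leaf t79_9)) (.leaf t79_5)) (.node (.leaf t79_3) (.leaf t79_7))))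
noncomputable def t80 : Tr ℕ := (.node (.node (.node (.node (.leaf t80_0) (.leaf t80_8)) (.leaf t80_4)) (.node (.leaf t80_2) (.leaf t80_6))) (.node (.node (.node (.leaf t80_1) (.leaf t80_9)) (.leaf t80_5)) (.node (.leaf t80_3) (.leaf t80_7))))
noncomputable def mc0c : Tr ℕ := (.node (.node (.node (.node (.leaf mc0c_0) (.leaf mc0c_8)) (.leaf mc0c_4)) (.node (.leaf mc0c_2) (.leaf mc0c_6))) (.node (.node (.node (.leaf mc0c_1) (.leaf mc0c_9)) (.leaf mc0c_5)) (.node (.leaf mc0c_3) (.leaf mc0c_7))))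
noncomputable def mc0p : Tr ℕ := (.node (.node (.node (.leaf mc0p_0) (.leaf mc0p_4)) (.node (.leaf mc0p_2) (.leaf mc0p_6))) (.node (.node (.leaf mc0p_1) (.leaf mc0p_5)) (.node (.leaf mc0p_3) (.leaf mc0p_7))))
noncomputable def mc0l : Tr ℕ := (.node (.node (.leaf mc0l_0) (.leaf mc0l_2)) (.node (.leaf mc0l_1) (.leaf mc0l_3)))
noncomputable def mc0i : Tr ℕ := (.node (.node (.leaf mc0i_0) (.leaf mc0i_2)) (.node (.leaf mc0i_1) (.leaf mc0i_3)))
noncomputable def mc0q : Tr ℕ := (.node (.node (.node (.node (.leaf mc0q_0) (.leaf mc0q_8)) (.leaf mc0q_4)) (.node (.leaf mc0q_2) (.leaf mc0q_6))) (.node (.node (.node (.leaf mc0q_1) (.leaf mc0q_9)) (.leaf mc0q_5)) (.node (.leaf mc0q_3) (.leaf mc0q_7))))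
noncomputable def mc1c : Tr ℕ := (.node (.node (.node (.node (.leaf mc1c_0) (.leaf mc1c_8)) (.leaf mc1c_4)) (.node (.leaf mc1c_2) (.leaf mc1c_6))) (.node (.node (.leaf mc1c_1) (.leaf mc1c_5)) (.node (.leaf mc1c_3) (.leaf mc1c_7))))
noncomputable def mc1p : Tr ℕ := (.node (.node (.node (.leaf mc1p_0) (.leaf mc1p_4)) (.node (.leaf mc1p_2) (.leaf mc1p_6))) (.node (.node (.leaf mc1p_1) (.leaf mc1p_5)) (.leaf mc1p_3)))
noncomputable def mc1l : Tr ℕ := (.node (.node (.leaf mc1l_0) (.leaf mc1l_2)) (.node (.leaf mc1l_1) (.leaf mc1l_3)))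
noncomputable def mc1i : Tr ℕ := (.node (.node (.leaf mc1i_0) (.leaf mc1i_2)) (.node (.leaf mc1i_1) (.leaf mc1i_3)))
noncomputable def mc1q : Tr ℕ := (.node (.node (.node (.node (.leaf mc1q_0) (.leaf mc1q_8)) (.leaf mc1q_4)) (.node (.leaf mc1q_2) (.leaf mc1q_6))) (.node (.node (.node (.leaf mc1q_1) (.leaf mc1q_9)) (.leaf mc1q_5)) (.node (.leaf mc1q_3) (.leaf mc1q_7))))
noncomputable def mc2c : Tr ℕ := (.node (.node (.node (.leaf mc2c_0) (.leaf mc2c_4)) (.node (.leaf mc2c_2) (.leaf mc2c_6))) (.node (.node (.leaf mc2c_1) (.leaf mc2c_5)) (.leaf mc2c_3)))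
noncomputable def mc2p : Tr ℕ := (.node (.node (.node (.leaf mc2p_0) (.leaf mc2p_4)) (.leaf mc2p_2)) (.node (.node (.leaf mc2p_1) (.leaf mc2p_5)) (.leaf mc2p_3)))
noncomputable def mc2l : Tr ℕ := (.node (.node (.leaf mc2l_0) (.leaf mc2l_2)) (.leaf mc2l_1))
noncomputable def mc2i : Tr ℕ := (.node (.node (.leaf mc2i_0) (.leaf mc2i_2)) (.leaf mc2i_1))
noncomputable def mc2q : Tr ℕ := (.node (.node (.node (.node (.leaf mc2q_0) (.leaf mc2q_8)) (.leaf mc2q_4)) (.node (.leaf mc2q_2) (.leaf mc2q_6))) (.node (.node (.node (.leaf mc2q_1) (.leaf mc2q_9)) (.leaf mc2q_5)) (.node (.leaf mc2q_3) (.leaf mc2q_7))))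
noncomputable def mc3c : Tr ℕ := (.node (.node (.leaf mc3c_0) (.leaf mc3c_2)) (.leaf mc3c_1))
noncomputable def mc3p : Tr ℕ := (.node (.leaf mc3p_0) (.leaf mc3p_1))
noncomputable def mc3q : Tr ℕ := (.node (.node (.node (.node (.leaf mc3q_0) (.leaf mc3q_8)) (.leaf mc3q_4)) (.node (.leaf mc3q_2) (.leaf mc3q_6))) (.node (.node (.node (.leaf mc3q_1) (.leaf mc3q_9)) (.leaf mc3q_5)) (.node (.leaf mc3q_3) (.leaf mc3q_7))))
noncomputable def mc4q : Tr ℕ := (.node (.node (.node (.node (.leaf mc4q_0) (.leaf mc4q_8)) (.leaf mc4q_4)) (.node (.leaf mc4q_2) (.leaf mc4q_6))) (.node (.node (.node (.leaf mc4q_1) (.leaf mc4q_9)) (.leaf mc4q_5)) (.node (.leaf mc4q_3) (.leaf mc4q_7))))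
noncomputable def tabs : List (Tr ℕ) := [t0,t1,t2,t3,t4,t5,t6,t7,t8,t9,t10,t11,t12,t13,t14,t15,t16,t17,t18,t19,t20,t21,t22,t23,t24,t25,t26,t27,t28,t29,t30,t31,t32,t33,t34,t35,t36,t37,t38,t39,t40,t41,t42,t43,t44,t45,t46,t47,t48,t49,t50,t51,t52,t53,t54,t55,t56,t57,t58,t59,t60,t61,t62,t63,t64,t65,t66,t67,t68,t69,t70,t71,t72,t73,t74,t75,t76,t77,t78,t79]
noncomputable abbrev app : ℕ → ℕ → ℕ := appB tabs t80 0xfffff
noncomputable def slpL : List (Bool × List ℕ) := [(false,[]),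
  (false,[]),
  (false,[]),
  (false,[]),
  (false,[]),
  (false,[]),
  (false,[]),
  (false,[]),
  (false,[]),
  (false,[]),
  (false,[6,3,0,7,2,3,4,8,1,5,0,9,7,0,3,8,0]),
  (true,[10]),
  (false,[10,10]),
  (true,[12]),
  (false,[12,12,12,12,12,12,10]),
  (false,[8,2,8,3,1,0,7,5,4,0,1,6,0,1,8]),
  (true,[15]),
  (false,[15]),
  (true,[17]),
  (false,[5,6,3,15,9,15,15,3,15,7,14,7,16,3,16,16,9,16,3,6,5]),
  (false,[18,19,18,19]),
  (true,[20]),
  (false,[18,20,20,20]),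
  (true,[22]),
  (false,[19,17,17]),
  (true,[24]),
  (false,[18,25,23,23,23,20]),
  (true,[26]),
  (false,[18,21,19,20,17]),
  (false,[17,20,23,20,18,20,18]),
  (true,[29]),
  (false,[20,23,24,22]),
  (false,[23,18,22,17,22,17,17]),
  (true,[32]),
  (false,[32,28,29,28,33]),
  (true,[34]),
  (false,[32,32,29,33,33]),
  (true,[36]),
  (false,[28,32,30,28,26,29]),
  (true,[38]),
  (false,[28,26,28,30,27,29]),
  (true,[40]),
  (false,[41,34,38]),
  (true,[42]),
  (false,[35,38,35,38,37,40]),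
  (true,[44]),
  (false,[35,40,40,40,34]),
  (true,[46]),
  (false,[45,45,47,44,44]),
  (true,[48]),
  (false,[46,45,43,47,45,47,42]),
  (true,[50]),
  (false,[46,44,43,45,46,42,47]),
  (true,[52]),
  (false,[7,3,7]),
  (false,[1,31,1]),
  (false,[50,52]),
  (true,[56]),
  (false,[1,9,1]),
  (false,[4,31,4]),
  (false,[57,55,59,57,59,55,56]),
  (true,[60]),
  (false,[54]),
  (false,[59,57,55,58,55,56,59]),
  (false,[19,59,57,54,58,56,54,59]),
  (false,[60,64,61,62,64,63,60,64]),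
  (true,[65]),
  (false,[64,60,64,61,64,61,64]),
  (true,[67]),
  (false,[64,60,62,61,64]),
  (false,[63,60,62,61,63]),
  (false,[61,62,63,62,60]),
  (false,[62,60,63,60,63,62,61,64,61]),
  (true,[72]),
  (false,[70,66,67,73]),
  (true,[74]),
  (false,[67,66,66,69,65]),
  (true,[76]),
  (false,[66,67,66,70,66,68]),
  (true,[78])]
noncomputable def slp (a : ℕ) : Bool × List ℕ := nth slpL (false, []) a
noncomputable def invL : List ℕ := [0,1,2,3,4,5,6,7,8,9,11,10,13,12,14,16,15,18,17,19,21,20,23,22,25,24,27,26,28,30,29,31,33,32,35,34,37,36,39,38,41,40,43,42,45,44,47,46,49,48,51,50,53,52,54,55,57,56,58,59,61,60,62,63,64,66,65,68,67,69,70,71,73,72,75,74,77,76,79,78]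
noncomputable def inv (a : ℕ) : ℕ := nth invL 80 a
noncomputable def bs : List ℕ := [96160,273840,330860,97220,266620]
noncomputable def mc0 : Lvl := ⟨96160, [17,18,19,20,21,22,23,24,25], 31671,
  fun i => lk2 mc0c 0xfffff (Nat.mul 20 i), fun i => lk2 mc0p 0xffff (Nat.mul 16 i),
  fun i => lk2 mc0l 0xff (Nat.mul 8 i), fun i => lk2 mc0i 0xff (Nat.mul 8 i), fun x => lk2 mc0q 0xfffff x, 7⟩
noncomputable def mc1 : Lvl := ⟨273840, [26,27,28,29,30,31,32,33], 28160,
  fun i => lk2 mc1c 0xfffff (Nat.mul 20 i), fun i => lk2 mc1p 0xffff (Nat.mul 16 i),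
  fun i => lk2 mc1l 0xff (Nat.mul 8 i), fun i => lk2 mc1i 0xff (Nat.mul 8 i), fun x => lk2 mc1q 0xfffff x, 7⟩
noncomputable def mc2 : Lvl := ⟨330860, [34,35,36,37,38,39,40,41], 21840,
  fun i => lk2 mc2c 0xfffff (Nat.mul 20 i), fun i => lk2 mc2p 0xffff (Nat.mul 16 i),
  fun i => lk2 mc2l 0xff (Nat.mul 8 i), fun i => lk2 mc2i 0xff (Nat.mul 8 i), fun x => lk2 mc2q 0xfffff x, 7⟩
noncomputable def mc3 : Lvl := ⟨97220, [42,43,44,45,46,47], 7776,
  fun i => lk2 mc3c 0xfffff (Nat.mul 20 i), fun i => lk2 mc3p 0xffff (Nat.mul 16 i),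
  fun i => look 0xff mc3l (Nat.mul 8 i), fun i => look 0xff mc3i (Nat.mul 8 i), fun x => lk2 mc3q 0xfffff x, 7⟩
noncomputable def mc4 : Lvl := ⟨266620, [48,49,50,51,52,53], 27,
  fun i => look 0xfffff mc4c (Nat.mul 20 i), fun i => look 0xff mc4p (Nat.mul 8 i),
  fun i => look 0xff mc4l (Nat.mul 8 i), fun i => look 0xff mc4i (Nat.mul 8 i), fun x => lk2 mc4q 0xfffff x, 3⟩
noncomputable def mc : List Lvl := [mc0, mc1, mc2, mc3, mc4]
noncomputable def tcR : List (List ℕ) := [[0,0],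
  [1,1],
  [2,2],
  [3,3],
  [4,4],
  [5,5],
  [6,6],
  [7,7],
  [8,8],
  [9,9],
  [0,1,0,1,0,1],
  [0,2,0,2],
  [0,3,0,3],
  [0,4,0,4],
  [0,5,0,5],
  [0,6,0,6],
  [0,7,0,7],
  [0,8,0,8],
  [0,9,0,9],
  [1,2,1,2,1,2],
  [1,3,1,3],
  [1,4,1,4],
  [1,5,1,5],
  [1,6,1,6],
  [1,7,1,7],
  [1,8,1,8],
  [1,9,1,9],
  [2,3,2,3,2,3],
  [2,4,2,4],
  [2,5,2,5],
  [2,6,2,6],
  [2,7,2,7],
  [2,8,2,8],
  [2,9,2,9],
  [3,4,3,4,3,4],
  [3,5,3,5],
  [3,6,3,6],
  [3,7,3,7],
  [3,8,3,8,3,8],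
  [3,9,3,9],
  [4,5,4,5,4,5],
  [4,6,4,6],
  [4,7,4,7],
  [4,8,4,8],
  [4,9,4,9],
  [5,6,5,6,5,6],
  [5,7,5,7],
  [5,8,5,8],
  [5,9,5,9],
  [6,7,6,7,6,7],
  [6,8,6,8],
  [6,9,6,9],
  [7,8,7,8],
  [7,9,7,9],
  [8,9,8,9,8,9],
  [3,2,1,3,4,5,3,8,9,3,2,1,3,4,5,3,8,9,3,2,1,3,4,5,3,8,9,3,2,1,3,4,5,3,8,9,3,2,1,3,4,5,3,8,9,3,2,1,3,4,5,3,8,9,3,2,1,3,4,5,3,8,9,3,2,1,3,4,5,3,8,9,3,2,1,3,4,5,3,8,9,3,2,1,3,4,5,3,8,9],
  [0,1,2,3,4,5,8,0,1,2,3,4,5,8,0,1,2,3,4,5,8,0,1,2,3,4,5,8,0,1,2,3,4,5,8,0,1,2,3,4,5,8,0,1,2,3,4,5,8,0,1,2,3,4,5,8,0,1,2,3,4,5,8]]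
noncomputable def tcS : List ℕ := [0,1,2,3,4,5,6,7,8,9]

end Cfsg.Agent.CG.Fi23
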