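import Cfsg.Agent.Lib.Grp.Fi23.ODefs

set_option autoImplicit false
set_option maxRecDepth 100000
set_option Elab.async false
set_option linter.unusedSectionVars false

namespace Cfsg.Agent.CG.Fi23

theorem Oc294 : cc0.chk (appB tabs t80 0xfffff) 1 20000 = true := by decide +kernel
theorem Oc295 : cc0.chk (appB tabs t80 0xfffff) 20001 8159 = true := by decide +kernel
theorem Oc296 : cc1.chk (appB tabs t80 0xfffff) 1 20000 = true := by decide +kernel
theorem Oc297 : cc1.chk (appB tabs t80 0xfffff) 20001 1839 = true := by decide +kernel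
theorem Oc298 : cc2.chk (appB tabs t80 0xfffff) 1 7775 = true := by decide +kernel
theorem Oc299 : cc3.chk (appB tabs t80 0xfffff) 1 26 = true := by decide +kernel
theorem Oc300 : okcb 31671 20 (bases cc) = true := by decide +kernel
theorem Oc301 : headAll (appB tabs t80 0xfffff) cc [] = true := by decide +kernel
theorem Oc302 : trChk (appB tabs t80 0xfffff) mc0 [mc1, mc2, mc3, mc4] bs (diagQ pQ) (diagQ pR) pF 0 1785 = true := by decide +kernel
theorem Oc303 : trChk (appB tabs t80 0xfffff) mc0 [mc1, mc2, mc3, mc4] bs (diagQ pQ) (diagQ pR) pF 1785 1785 = true := by decide +kernel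
theorem Oc304 : trChk (appB tabs t80 0xfffff) mc0 [mc1, mc2, mc3, mc4] bs (diagQ pQ) (diagQ pR) pF 3570 1785 = true := by decide +kernel
theorem Oc305 : trChk (appB tabs t80 0xfffff) mc0 [mc1, mc2, mc3, mc4] bs (diagQ pQ) (diagQ pR) pF 5355 1785 = true := by decide +kernel
theorem Oc306 : trChk (appB tabs t80 0xfffff) mc0 [mc1, mc2, mc3, mc4] bs (diagQ pQ) (diagQ pR) pF 7140 1785 = true := by decide +kernel
theorem Oc307 : trChk (appB tabs t80 0xfffff) mc0 [mc1, mc2, mc3, mc4] bs (diagQ pQ) (diagQ pR) pF 8925 1785 = true := by decide +kernel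
theorem Oc308 : trChk (appB tabs t80 0xfffff) mc0 [mc1, mc2, mc3, mc4] bs (diagQ pQ) (diagQ pR) pF 10710 1785 = true := by decide +kernel
theorem Oc309 : trChk (appB tabs t80 0xfffff) mc0 [mc1, mc2, mc3, mc4] bs (diagQ pQ) (diagQ pR) pF 12495 1785 = true := by decide +kernel
theorem Oc310 : trChk (appB tabs t80 0xfffff) mc0 [mc1, mc2, mc3, mc4] bs (diagQ pQ) (diagQ pR) pF 14280 1785 = true := by decide +kernel
theorem Oc311 : trChk (appB tabs t80 0xfffff) mc0 [mc1, mc2, mc3, mc4] bs (diagQ pQ) (diagQ pR) pF 16065 1785 = true := by decide +kernel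
theorem Oc312 : trChk (appB tabs t80 0xfffff) mc0 [mc1, mc2, mc3, mc4] bs (diagQ pQ) (diagQ pR) pF 17850 1785 = true := by decide +kernel
theorem Oc313 : trChk (appB tabs t80 0xfffff) mc0 [mc1, mc2, mc3, mc4] bs (diagQ pQ) (diagQ pR) pF 19635 1785 = true := by decide +kernel
theorem Oc314 : trChk (appB tabs t80 0xfffff) mc0 [mc1, mc2, mc3, mc4] bs (diagQ pQ) (diagQ pR) pF 21420 1785 = true := by decide +kernel
theorem Oc315 : trChk (appB tabs t80 0xfffff) mc0 [mc1, mc2, mc3, mc4] bs (diagQ pQ) (diagQ pR) pF 23205 1785 = true := by decide +kernel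
theorem Oc316 : trChk (appB tabs t80 0xfffff) mc0 [mc1, mc2, mc3, mc4] bs (diagQ pQ) (diagQ pR) pF 24990 1785 = true := by decide +kernel
theorem Oc317 : trChk (appB tabs t80 0xfffff) mc0 [mc1, mc2, mc3, mc4] bs (diagQ pQ) (diagQ pR) pF 26775 1785 = true := by decide +kernel
theorem Oc318 : trChk (appB tabs t80 0xfffff) mc0 [mc1, mc2, mc3, mc4] bs (diagQ pQ) (diagQ pR) pF 28560 1785 = true := by decide +kernel
theorem Oc319 : trChk (appB tabs t80 0xfffff) mc0 [mc1, mc2, mc3, mc4] bs (diagQ pQ) (diagQ pR) pF 30345 1326 = true := by decide +kernel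
theorem Oc320 : classChk (appB tabs t80 0xfffff) bs 19 2 14 [14,19] pS pF pU = true := by decide +kernel
theorem Oc321 : powChk (appB tabs t80 0xfffff) bs 17 17 aK nK = true := by decide +kernel
theorem Oc322 : en.chk (appB tabs t80 0xfffff) tst 0 1069 0 28638746756198863261760 = true := by decide +kernel
theorem Oc323 : en.chk (appB tabs t80 0xfffff) tst 1069 1069 28638746756198863261760 56562979399583715065480 = true := by decide +kernel
theorem Oc324 : en.chk (appB tabs t80 0xfffff) tst 2138 1069 56562979399583715065480 83910208549500999808780 = true := by decide +kernel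
theorem Oc325 : en.chk (appB tabs t80 0xfffff) tst 3207 1069 83910208549500999808780 112364034888022056589040 = true := by decide +kernel
theorem Oc326 : en.chk (appB tabs t80 0xfffff) tst 4276 1069 112364034888022056589040 140702919094285474334680 = true := by decide +kernel

end Cfsg.Agent.CG.Fi23
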