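import Cfsg.Agent.Lib.Grp.Fi23.OD2
import Cfsg.Agent.Lib.Grp.Fi23.Defs

set_option autoImplicit false
set_option maxRecDepth 100000
set_option Elab.async false
set_option linter.unusedSectionVars false

namespace Cfsg.Agent.CG.Fi23

noncomputable def cc0c : Tr ℕ := (.node (.node (.node (.node (.leaf cc0c_0) (.leaf cc0c_8)) (.leaf cc0c_4)) (.node (.leaf cc0c_2) (.leaf cc0c_6))) (.node (.node (.leaf cc0c_1) (.leaf cc0c_5)) (.node (.leaf cc0c_3) (.leaf cc0c_7))))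
noncomputable def cc0p : Tr ℕ := (.node (.node (.node (.leaf cc0p_0) (.leaf cc0p_4)) (.node (.leaf cc0p_2) (.leaf cc0p_6))) (.node (.node (.leaf cc0p_1) (.leaf cc0p_5)) (.leaf cc0p_3)))
noncomputable def cc0l : Tr ℕ := (.node (.node (.leaf cc0l_0) (.leaf cc0l_2)) (.node (.leaf cc0l_1) (.leaf cc0l_3)))
noncomputable def cc0i : Tr ℕ := (.node (.node (.leaf cc0i_0) (.leaf cc0i_2)) (.node (.leaf cc0i_1) (.leaf cc0i_3)))
noncomputable def cc0q : Tr ℕ := (.node (.node (.node (.node (.leaf cc0q_0) (.leaf cc0q_8)) (.leaf cc0q_4)) (.node (.leaf cc0q_2) (.leaf cc0q_6))) (.node (.node (.node (.leaf cc0q_1) (.leaf cc0q_9)) (.leaf cc0q_5)) (.node (.leaf cc0q_3) (.leaf cc0q_7))))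
noncomputable def cc1c : Tr ℕ := (.node (.node (.node (.leaf cc1c_0) (.leaf cc1c_4)) (.node (.leaf cc1c_2) (.leaf cc1c_6))) (.node (.node (.leaf cc1c_1) (.leaf cc1c_5)) (.leaf cc1c_3)))
noncomputable def cc1p : Tr ℕ := (.node (.node (.node (.leaf cc1p_0) (.leaf cc1p_4)) (.leaf cc1p_2)) (.node (.node (.leaf cc1p_1) (.leaf cc1p_5)) (.leaf cc1p_3)))
noncomputable def cc1l : Tr ℕ := (.node (.node (.leaf cc1l_0) (.leaf cc1l_2)) (.leaf cc1l_1))
noncomputable def cc1i : Tr ℕ := (.node (.node (.leaf cc1i_0) (.leaf cc1i_2)) (.leaf cc1i_1))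
noncomputable def cc1q : Tr ℕ := (.node (.node (.node (.node (.leaf cc1q_0) (.leaf cc1q_8)) (.leaf cc1q_4)) (.node (.leaf cc1q_2) (.leaf cc1q_6))) (.node (.node (.node (.leaf cc1q_1) (.leaf cc1q_9)) (.leaf cc1q_5)) (.node (.leaf cc1q_3) (.leaf cc1q_7))))
noncomputable def cc2c : Tr ℕ := (.node (.node (.leaf cc2c_0) (.leaf cc2c_2)) (.leaf cc2c_1))
noncomputable def cc2p : Tr ℕ := (.node (.leaf cc2p_0) (.leaf cc2p_1))
noncomputable def cc2q : Tr ℕ := (.node (.node (.node (.node (.leaf cc2q_0) (.leaf cc2q_8)) (.leaf cc2q_4)) (.node (.leaf cc2q_2) (.leaf cc2q_6))) (.node (.node (.node (.leaf cc2q_1) (.leaf cc2q_9)) (.leaf cc2q_5)) (.node (.leaf cc2q_3) (.leaf cc2q_7))))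
noncomputable def cc3q : Tr ℕ := (.node (.node (.node (.node (.leaf cc3q_0) (.leaf cc3q_8)) (.leaf cc3q_4)) (.node (.leaf cc3q_2) (.leaf cc3q_6))) (.node (.node (.node (.leaf cc3q_1) (.leaf cc3q_9)) (.leaf cc3q_5)) (.node (.leaf cc3q_3) (.leaf cc3q_7))))
noncomputable def cc0 : Lvl := ⟨0, [19,54,55,56,57,58,59], 28160,
  fun i => lk2 cc0c 0xfffff (Nat.mul 20 i), fun i => lk2 cc0p 0xffff (Nat.mul 16 i),
  fun i => lk2 cc0l 0xff (Nat.mul 8 i), fun i => lk2 cc0i 0xff (Nat.mul 8 i), fun x => lk2 cc0q 0xfffff x, 10⟩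
noncomputable def cc1 : Lvl := ⟨80, [60,61,62,63,64], 21840,
  fun i => lk2 cc1c 0xfffff (Nat.mul 20 i), fun i => lk2 cc1p 0xffff (Nat.mul 16 i),
  fun i => lk2 cc1l 0xff (Nat.mul 8 i), fun i => lk2 cc1i 0xff (Nat.mul 8 i), fun x => lk2 cc1q 0xfffff x, 10⟩
noncomputable def cc2 : Lvl := ⟨2940, [65,66,67,68,69,70,71,72,73], 7776,
  fun i => lk2 cc2c 0xfffff (Nat.mul 20 i), fun i => lk2 cc2p 0xffff (Nat.mul 16 i),
  fun i => look 0xff cc2l (Nat.mul 8 i), fun i => look 0xff cc2i (Nat.mul 8 i), fun x => lk2 cc2q 0xfffff x, 6⟩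
noncomputable def cc3 : Lvl := ⟨20, [74,75,76,77,78,79], 27,
  fun i => look 0xfffff cc3c (Nat.mul 20 i), fun i => look 0xff cc3p (Nat.mul 8 i),
  fun i => look 0xff cc3l (Nat.mul 8 i), fun i => look 0xff cc3i (Nat.mul 8 i), fun x => lk2 cc3q 0xfffff x, 3⟩
noncomputable def cc : List Lvl := [cc0, cc1, cc2, cc3]
noncomputable def pS : List ℕ := [12]
noncomputable def pQ : List (List ℕ) := [[],
  [12],
  [12,12,12],
  [12,12,12,12,12,12],
  [12,12]]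
noncomputable def pR : List (List ℕ) := [[12]]
noncomputable def pF : List (List ℕ) := [[],
  [18,18,20,25,23,21,27,31,32,29,32,27,35,36,41,37,39,46,44,47,45,42,52,50,49],
  [25,22,19,21,27,32,27,29,31,27,34,41,39,37,44,43,43,46,44,46,53,51,49],
  [22,22,24,23,21,22,28,31,32,31,26,36,40,39,34,37,34,42,45,42,44,44,43,52],
  [18,21,17,23,17,33,26,31,27,29,26,41,41,38,40,38,34,43,43,43,46,43,44,53,49],
  [19,20,22,17,23,19,31,32,26,26,29,40,35,40,35,40,34,47,43,45,43,45,42,53,50],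
  [18,23,23,23,18,30,33,28,26,40,39,41,41,39,34,44,43,47,42,46,42,53,50],
  [20,20,19,22,28,32,31,26,32,29,35,37,34,39,37,34,43,43,44,44,43,52,49],
  [25,18,18,18,23,31,26,30,35,38,41,34,38,34,42,46,43,44,42,46,42,53,51,48],
  [19,22,22,20,18,23,31,27,29,31,30,34,41,41,41,38,34,45,47,43,45,42,46,53,51],
  [24,22,22,20,22,25,17,30,26,30,28,27,37,34,45,45,46,42,46,53],
  [22,19,25,23,17,19,26,30,33,26,31,27,41,41,41,34,36,34,44,42,42,45,43,44,48],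
  [23,20,22,25,23,21,17,27,27,32,31,27,36,39,40,34,36,38,47,42,46,45,46,53,50],
  [25,25,20,30,27,29,28,27,40,34,40,34,42,46,45,46,43,47,53],
  [17,20,18,25,25,17,26,33,28,32,29,31,35,40,40,37,34,46,45,47,44,42,42,52,51],
  [25,21,21,22,18,20,30,31,30,28,30,26,38,34,41,36,34,44,44,43,45,42,44,44,52,51,49],
  [21,17,23,18,23,18,31,30,33,26,31,26,41,38,35,40,36,42,44,47,44,47,45,53,50,48],
  [19,23,17,23,21,19,32,30,26,26,33,26,41,39,36,38,36,39,47,45,47,42,44,43,52,50],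
  [22,24,21,22,22,17,33,27,31,33,30,27,39,40,34,40,38,45,45,42,45,45,43,43,52,51,49],
  [18,22,17,17,17,17,17,27,33,33,28,33,36,40,40,38,40,34,42,42,44,43,43,43,50],
  [20,22,21,18,22,33,28,31,26,29,38,36,39,40,40,42,47,44,42,46,42,53,51,49],
  [25,17,21,17,17,33,27,31,33,26,37,35,38,40,37,46,43,45,46,45,42,51,48],
  [18,18,23,21,24,19,26,30,32,32,26,34,36,38,40,36,44,43,44,43,43,53,50],
  [17,20,25,23,19,20,26,30,26,31,27,29,41,37,41,39,36,34,46,42,47,44,46,42,51,48],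
  [22,20,22,22,19,17,28,31,32,31,29,39,40,35,39,41,36,45,42,46,43,44,42,53,51,49],
  [21,18,18,20,22,20,30,26,31,26,33,26,39,35,41,36,38,46,44,42,47,44,43,53,51],
  [23,19,17,22,26,32,28,29,33,36,34,41,41,41,43,44,44,42,46,43,49],
  [25,20,25,23,17,31,26,29,32,29,27,36,39,37,40,39,35,47,44,43,43,44,49],
  [21,23,20,20,22,18,27,33,30,32,30,33,37,34,40,37,39,46,42,44,43,43,43,51,49],
  [23,20,17,20,18,18,32,29,32,27,31,26,40,39,41,35,37,46,43,46,42,42,53],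
  [24,20,22,19,28,30,31,27,29,27,38,34,40,35,38,38,43,44,46,45,46,44,49],
  [24,19,23,21,32,31,27,28,32,27,34,41,36,40,34,44,46,44,42,44,44,42,51,48],
  [21,19,23,24,21,26,31,28,27,32,34,36,40,40,38,37,45,47,45,47,43,44,50,49],
  [22,24,21,18,22,26,32,28,32,26,29,40,35,36,34,39,34,44,42,45,46,44,42,53,51,48],
  [25,22,17,24,21,29,26,30,40,38,36,38,36,34,44,42,47,44,47,53],
  [18,25,23,21,24,27,30,28,31,28,27,40,39,41,37,35,46,44,46,43,46,53,50,48],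
  [24,22,18,22,20,20,17,26,26,31,32,26,34,39,40,37,38,35,44,44,43,45,46,44,49],
  [25,22,18,25,20,26,33,29,26,26,30,38,36,38,36,34,43,43,45,47,44,47,50,49],
  [24,20,17,23,20,30,31,26,37,41,37,34,37,46,42,44,47,44,52],
  [22,24,22,25,23,32,26,29,33,29,39,35,40,38,40,38,45,42,45,46,43,45,53,50,49],
  [24,24,19,23,20,30,26,29,27,27,38,37,40,39,36,45,45,47,44,44,43,53,48],
  [17,17,20,23,19,20,33,33,28,26,41,37,41,38,41,34,44,47,44,44,46,43,50,49],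
  [17,23,19,22,25,17,17,31,30,28,31,32,28,41,39,36,41,39,34,44,42,47,45,42,52,50,49],
  [20,20,18,25,17,21,27,32,29,31,32,38,40,35,44,43,44,46,45,42,53,51,48],
  [19,23,20,19,23,33,26,31,30,28,38,35,37,41,37,45,43,44,47,42,45,51,48],
  [21,21,23,20,18,18,32,30,31,29,26,40,38,38,38,36,42,42,44,44,53,51,49],
  [23,25,22,20,25,23,32,32,30,32,28,35,40,35,38,37,44,44,43,45,46,44,53,51,48],
  [24,22,18,25,18,27,27,28,27,33,26,36,39,39,41,41,37,43,43,43,46,44,43,53,51,48],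
  [22,22,24,21,19,26,26,31,28,33,35,36,35,41,36,34,44,46,43,45,42,44,53,48],
  [18,20,22,22,33,28,32,27,28,27,37,34,41,39,35,43,44,42,44,44,44,48],
  [21,22,20,22,18,30,32,31,32,26,39,36,41,41,34,36,42,42,46,44,47,52,48],
  [24,23,25,23,19,26,29,26,33,29,26,36,39,34,40,40,43,47,45,42,45,43,48],
  [24,24,24,19,26,30,26,30,31,32,34,37,41,37,34,43,44,46,45,43,46,52,49],
  [23,17,24,17,22,30,27,28,27,29,27,37,41,34,36,40,40,42,42,44,46,45,43,51],
  [25,22,17,22,17,27,27,27,27,29,38,37,40,38,34,36,34,47,42,45,43,44,44,44,50],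
  [23,20,25,25,28,30,27,31,27,38,34,36,39,35,42,45,46,45,43,47,53,48],
  [20,20,25,17,26,32,29,33,28,26,38,40,39,39,35,46,45,47,45,43,47,53,51,49],
  [25,25,17,21,22,30,28,33,31,29,26,40,34,41,38,46,43,44,42,45,42,53,48],
  [23,21,19,22,18,18,27,28,31,26,28,33,41,38,40,39,34,46,44,42,42,42,42,49],
  [19,18,20,22,18,18,33,33,31,28,29,37,40,38,41,35,36,42,46,43,46,42,44,52,51,48],
  [21,22,25,23,23,21,27,27,32,29,27,28,41,36,40,38,38,45,42,46,42,46,52,49],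
  [18,22,25,22,18,30,31,32,40,37,38,40,38,47,44,47,43,46,45,48],
  [23,24,24,19,21,33,28,27,33,34,37,40,36,39,34,42,44,46,42,47,45,42,49],
  [18,22,22,17,17,22,17,26,30,32,31,26,36,40,34,36,35,45,43,46,43,43,46],
  [23,17,21,19,25,26,33,30,26,29,36,38,34,41,35,44,47,43,45,42,44,42,53],
  [24,17,23,19,23,33,33,28,26,32,28,38,37,39,37,41,35,46,42,44,44,51],
  [25,23,19,21,22,32,31,32,32,26,37,40,34,36,40,34,46,42,44,47,45,43,53,51],
  [20,18,18,18,20,18,18,30,27,29,28,32,35,39,35,39,34,46,43,46,43,44,42,53,50,48],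
  [19,21,21,23,19,17,31,30,26,33,31,26,40,35,37,34,47,45,46,44,47,50,48],
  [22,22,20,19,25,28,31,28,26,26,39,35,39,39,35,37,42,47,45,45,42,53,50],
  [20,25,21,23,19,17,27,31,33,26,33,27,36,34,41,41,38,35,47,43,45,47,43,48],
  [22,19,18,21,17,19,31,33,28,29,31,37,34,39,40,37,40,42,45,42,47,52,50],
  [18,23,23,19,25,25,33,27,33,27,29,31,36,41,38,41,39,36,45,47,43,47,53],
  [21,24,19,20,25,28,32,30,32,32,27,40,39,34,38,40,34,45,42,45,45,47,45,42,50],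
  [17,24,19,25,23,31,27,30,26,29,27,34,37,39,40,40,35,46,42,45,45,47,44,42,53,51],
  [19,18,23,21,23,29,33,28,29,33,26,39,37,35,37,34,42,44,42,45,46,44,51,48],
  [18,21,19,25,25,17,29,27,28,32,32,27,37,41,38,41,41,35,43,45,45,46,42,46,51],
  [25,20,17,17,23,27,27,32,31,26,41,34,37,34,40,34,44,44,47,42,47,42,52]]
noncomputable def pU : List (List ℕ) := [[14,33,27],
  [8,31,23],
  [14,19]]
noncomputable def aK : List ℕ := [17]
noncomputable def nK : List (List ℕ × ℕ) := [([],0),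
  ([],17),
  ([19,22,22,18,25,17,31,33,33,33,38,41,34,37,38,34,47,42,44,47,44,46,53,51],17),
  ([19,22,18,20,18,22,17,31,30,28,31,27,28,40,40,40,40,39,47,42,47,45,42,52,49],17),
  ([19,23,24,17,21,29,32,27,33,27,37,34,41,38,41,34,46,44,42,42,47,43,52,49],17),
  ([22,20,19,22,19,30,26,30,31,30,26,38,40,40,39,40,34,43,44,42,42,45,43,51,49],17),
  ([25,18,24,23,25,23,26,33,26,31,26,26,39,41,38,38,38,34,42,42,46,44,43,44,50,48],17),
  ([21,23,21,18,32,31,26,31,32,29,35,39,35,39,39,44,42,46,43,52,48],17),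
  ([23,20,23,23,19,20,27,32,28,30,28,27,36,38,35,39,41,34,45,47,45,47,43,46,42,52,50],17),
  ([21,17,19,23,17,21,28,26,28,29,34,36,34,36,39,40,47,45,46,42,53,50],17),
  ([17,17,24,24,21,32,29,31,33,26,34,38,38,36,41,36,46,42,44,44,47,42,52,51,48],17),
  ([20,18,18,18,22,22,20,33,26,26,32,28,26,40,36,40,35,41,44,44,47,42,42,42,50,49],17),
  ([19,25,25,22,18,18,33,33,33,27,31,26,34,40,40,35,41,43,43,43,45,45,53,50],17),
  ([19,22,25,25,23,19,32,26,30,31,30,28,38,34,39,35,36,35,45,47,42,44,44,43,53,50],17),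
  ([22,18,25,23,21,17,17,29,33,31,26,33,26,40,39,37,39,39,37,44,46,42,45,43,43,53,48],17),
  ([21,23,20,18,18,18,30,31,32,28,32,29,34,39,39,36,43,45,46,45,42,42,52,49],17),
  ([20,18,18,18,18,18,28,27,30,27,32,26,41,35,41,35,40,35,45,46,45,46,42,44,43,53,50],17)]
noncomputable def rT : List (List ℕ × ℕ) := [([0,0,0,1,0,0,0,1,0,0,0,1,0,0,0,1,0,0,0,1,0,0,0,1,0,0,0,1,0,0,0,1,0,0,0,1,0,0,0,1,0,0,0,1,0,0,0,1,0,0,0,1,0,0,0,1,0,0,0,1,0,0,0,1,0,0,0,1],212480),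
  ([0,0,0,0,1,0,0,0,0,1,0,0,0,0,1,0,0,0,0,1,0,0,0,0,1,0,0,0,0,1,0,0,0,0,1,0,0,0,0,1,0,0,0,0,1,0,0,0,0,1,0,0,0,0,1,0,0,0,0,1,0,0,0,0,1,0,0,0,0,1,0,0,0,0,1,0,0,0,0,1,0,0,0,0,1],193540),
  ([0,1,0,1,0,1,0,1,0,1,0,1,0,1,0,1,0,1,0,1,0,1,0,1,0,1,0,1,0,1,0,1,0,1,0,1,0,1,0,1,0,1,0,1],555740),
  ([0,0,0,1,0,0,1,0,1,0,0,0,1,0,0,1,0,1,0,0,0,1,0,0,1,0,1,0,0,0,1,0,0,1,0,1,0,0,0,1,0,0,1,0,1,0,0,0,1,0,0,1,0,1,0,0,0,1,0,0,1,0,1,0,0,0,1,0,0,1,0,1,0,0,0,1,0,0,1,0,1],283380)]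
noncomputable def uu : List (List ℕ) := [[],
  [17],
  [17,17],
  [17,17,17],
  [17,17,17,17],
  [17,17,17,17,17],
  [17,17,17,17,17,17],
  [18],
  [18,18],
  [18,18,18],
  [18,18,18,18],
  [18,18,18,18,18],
  [18,18,18,18,18,18],
  [20,18,18,18,18,18,27,31,27,33,33,26,34,38,35,41,41,46,45,47,42,47,50],
  [21,22,22,24,20,20,27,33,33,26,33,26,39,36,40,35,40,34,47,43,45,43,47,50,48],
  [21,23,23,23,24,26,30,31,26,26,40,39,35,41,37,34,43,43,45,47,43,47,53,51,48],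
  [24,21,23,23,23,24,27,27,31,27,31,29,41,41,38,40,38,34,42,44,44,42,46,52,50,48]]
noncomputable def wT : Tr ℕ := (.node (.node (.node (.node (.node (.leaf wx0) (.leaf wx16)) (.node (.leaf wx8) (.leaf wx24))) (.node (.node (.leaf wx4) (.leaf wx20)) (.node (.leaf wx12) (.leaf wx28)))) (.node (.node (.node (.leaf wx2) (.leaf wx18)) (.node (.leaf wx10) (.leaf wx26))) (.node (.node (.leaf wx6) (.leaf wx22)) (.node (.leaf wx14) (.leaf wx30))))) (.node (.node (.node (.node (.leaf wx1) (.leaf wx17)) (.node (.leaf wx9) (.leaf wx25))) (.node (.node (.leaf wx5) (.leaf wx21)) (.node (.leaf wx13) (.leaf wx29)))) (.node (.node (.node (.leaf wx3) (.leaf wx19)) (.node (.leaf wx11) (.leaf wx27))) (.node (.node (.leaf wx7) (.leaf wx23)) (.leaf wx15)))))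
noncomputable def en : Enum := ⟨inv, 8, 255, 4, fun i => force (Nat.shiftRight i 10) fun c => look 0xffffffff (wT.get c) (Nat.mul 32 (Nat.land i 1023)), 19, [556680,432720,301500,132420], 1048576⟩
noncomputable def tst : (ℕ → ℕ) → Bool := outTest (appB tabs t80 0xfffff) bs aK rT [(17, 19)] uu

end Cfsg.Agent.CG.Fi23
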